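import Mathlib
import Cfsg.Agent.H301.SY.Core

/-!
# S3846: the criteria (helper301)

`x` of prime order `p` in the finite group `K`, with cyclic Sylow `p`-subgroups.

* `M0.false` : `K` simple, Sylow `p` abelian, `YE p x`, `M0 x` : contradiction;
* `M0.of_triv` : `x` centralises all `t`-subgroups which it normalises, `t ≠ p` : `M0 x`;
* `M0.of_triv_blk` : the same for the primes `t` dividing `p - 1`, with `YE p x` and the block lemma;
* `centralises_of_card` : the case `p ∤ t ^ i - 1` for `t ^ i ∣ |K|`;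
* `m0_of_rep` : `M0 x` from a representation of degree `< p - 1`;
* `false_of_crow` : `Zc` and Gow's theorem.
-/

set_option autoImplicit false
set_option linter.unusedSectionVars false

namespace Cfsg.Agent.H301.SY

open Cfsg Subgroup Cfsg.Agent.H459.Rad Cfsg.Agent.H459.Iface Cfsg.Agent.SignalizersComponents.ComponentExists

variable {K : Type*} [Group K] [Finite K] {p : ℕ} [hp : Fact p.Prime]

/-- a solvable subgroup and a cyclic group normalising it -/
theorem isSolvable_sup_zpowers {A : Subgroup K} (hA : Group.IsSolvable A) {s : K}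
    (hs : ∀ a ∈ A, s * a * s⁻¹ ∈ A) : Group.IsSolvable ↥(A ⊔ zpowers s) := by
  have hn : zpowers s ≤ normalizer (A : Set K) := by
    rw [zpowers_le, Subgroup.mem_normalizer_iff_map_conj_eq]
    refine Subgroup.eq_of_le_of_card_ge ?_ (le_of_eq (Subgroup.card_map_of_injective
      (K := A) (MulAut.conj s).injective).symm)
    rintro _ ⟨a, ha, rfl⟩
    exact hs a ha
  have h1 : A ⊔ zpowers s ≤ normalizer (A : Set K) := sup_le le_normalizer hn
  set M := A ⊔ zpowers s with hM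
  have hAM : A ≤ M := le_sup_left
  have hsM : s ∈ M := mem_sup_right (mem_zpowers s)
  have hnorm : (A.subgroupOf M).Normal := by
    refine ⟨fun n hn g => ?_⟩
    rw [mem_subgroupOf] at hn ⊢
    exact (Subgroup.mem_normalizer_iff.1 (h1 g.2) n).1 hn
  have hsolA : Group.IsSolvable (A.subgroupOf M) :=
    Group.isSolvable_of_surjective (f := (subgroupOfEquivOfLe hAM).symm.toMonoidHom)
      (subgroupOfEquivOfLe hAM).symm.surjective
  refine isSolvable_of_quotient (A.subgroupOf M) hsolA ?_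
  have hcyc : ∀ y : M ⧸ A.subgroupOf M, y ∈ zpowers (QuotientGroup.mk' (A.subgroupOf M) ⟨s, hsM⟩) := by
    intro y
    obtain ⟨⟨m, hm⟩, rfl⟩ := QuotientGroup.mk'_surjective (A.subgroupOf M) y
    have h2 : (⟨m, hm⟩ : M) ∈ A.subgroupOf M ⊔ zpowers (⟨s, hsM⟩ : M) := by
      have h3 : (A.subgroupOf M ⊔ zpowers (⟨s, hsM⟩ : M)).map M.subtype = M := by
        rw [Subgroup.map_sup, MonoidHom.map_zpowers]
        have h4 : (A.subgroupOf M).map M.subtype = A := by
          rw [Subgroup.subgroupOf_map_subtype, inf_eq_left.2 hAM]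
        rw [h4]
        exact hM.symm
      have h5 : m ∈ (A.subgroupOf M ⊔ zpowers (⟨s, hsM⟩ : M)).map M.subtype := by rw [h3]; exact hm
      obtain ⟨z, hz, h6⟩ := h5
      have h7 : z = ⟨m, hm⟩ := Subtype.ext h6
      rwa [← h7]
    obtain ⟨a, ha, z, hz, h3⟩ := (Subgroup.mem_sup_of_normal_left (hs := hnorm)).1 h2
    obtain ⟨k, rfl⟩ := mem_zpowers_iff.1 hz
    rw [← h3, map_mul, map_zpow]
    have h4 : QuotientGroup.mk' (A.subgroupOf M) a = 1 := (QuotientGroup.eq_one_iff a).2 ha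
    rw [h4, one_mul]
    exact zpow_mem (mem_zpowers _) k
  refine Group.isSolvable_of_comm fun a b => ?_
  obtain ⟨i, rfl⟩ := mem_zpowers_iff.1 (hcyc a)
  obtain ⟨j, rfl⟩ := mem_zpowers_iff.1 (hcyc b)
  rw [← zpow_add, ← zpow_add, add_comm]

/-- `⟨x, y⟩` is solvable if `x` normalises the solvable subgroup `A` which contains `y` -/
theorem isSolvable_pair {A : Subgroup K} (hA : Group.IsSolvable A) {s y : K}
    (hs : ∀ a ∈ A, s * a * s⁻¹ ∈ A) (hy : y ∈ A) : Group.IsSolvable ↥(closure ({s, y} : Set K)) := by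
  refine isSolvable_of_le ?_ (isSolvable_sup_zpowers hA hs)
  rw [closure_le]
  rintro z (rfl | rfl)
  · exact mem_sup_right (mem_zpowers _)
  · exact mem_sup_left hy

theorem isSolvable_of_isPGroup {t : ℕ} [Fact t.Prime] {A : Subgroup K} (h : IsPGroup t A) : Group.IsSolvable A := by
  have := h.isNilpotent
  infer_instance

theorem mem_normalizer_zpowers {x s : K} (h : s * x * s⁻¹ ∈ zpowers x) : ∀ a ∈ zpowers x, s * a * s⁻¹ ∈ zpowers x := by
  rintro a ha
  obtain ⟨k, rfl⟩ := mem_zpowers_iff.1 ha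
  have e : s * x ^ k * s⁻¹ = (s * x * s⁻¹) ^ k := (conj_zpow).symm
  rw [e]
  exact zpow_mem h k

/-- **the criterion `M0`** -/
theorem M0.false [IsSimpleGroup K] (hna : ¬ IsMulCommutative K)
    (hP : ∀ P : Sylow p K, ∀ a ∈ (P : Subgroup K), ∀ b ∈ (P : Subgroup K), a * b = b * a) {x : K}
    (hx : orderOf x = p) (hY : YE p x) (h0 : M0 x) : False := by
  have hx1 : x ≠ 1 := by
    rintro rfl
    rw [orderOf_one] at hx
    exact hp.out.one_lt.ne hx
  -- no `r`-elements normalise `⟨x⟩`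
  have step1 : ∀ r : ℕ, r.Prime → r ≠ p → ∀ y : K, (∃ k : ℕ, orderOf y = r ^ k) → y * x * y⁻¹ ∈ zpowers x → y = 1 := by
    intro r hr hrp y hy hyx
    by_contra hy1
    have hs : Group.IsSolvable ↥(closure ({x, y} : Set K)) := by
      have h1 : Group.IsSolvable (zpowers x) := Group.isSolvable_of_comm fun a b => Subtype.ext (by
        obtain ⟨i, hi⟩ := mem_zpowers_iff.1 a.2
        obtain ⟨j, hj⟩ := mem_zpowers_iff.1 b.2
        show (a : K) * b = b * a
        rw [← hi, ← hj, ← zpow_add, ← zpow_add, add_comm])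
      rw [Set.pair_comm]
      exact isSolvable_pair h1 (mem_normalizer_zpowers hyx) (mem_zpowers x)
    have h1 : ∀ g : K, (g * y * g⁻¹) * x * (g * y * g⁻¹)⁻¹ ∈ zpowers x := fun g =>
      h0 _ (hY r hr hrp y hy hs g) (subset_closure (by simp)) _ (subset_closure (by simp))
    have hne : normalClosure ({y} : Set K) = ⊤ := by
      rcases (inferInstance : (normalClosure ({y} : Set K)).Normal).eq_bot_or_eq_top with h2 | h2
      · exfalso
        apply hy1
        have h3 : y ∈ normalClosure ({y} : Set K) := subset_normalClosure rfl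
        rwa [h2, mem_bot] at h3
      · exact h2
    have hle : normalClosure ({y} : Set K) ≤ normalizer ((zpowers x : Subgroup K) : Set K) := by
      rw [normalClosure, closure_le]
      intro z hz
      obtain ⟨w, hw, h3⟩ := Group.mem_conjugatesOfSet_iff.1 hz
      rw [Set.mem_singleton_iff.1 hw] at h3
      obtain ⟨g, hg⟩ := isConj_iff.1 h3
      rw [← hg, SetLike.mem_coe, Subgroup.mem_normalizer_iff_map_conj_eq]
      refine Subgroup.eq_of_le_of_card_ge ?_ (le_of_eq (Subgroup.card_map_of_injective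
        (K := zpowers x) (MulAut.conj (g * y * g⁻¹)).injective).symm)
      rintro _ ⟨a, ha, rfl⟩
      exact mem_normalizer_zpowers (h1 g) a ha
    rw [hne] at hle
    have hnorm : (zpowers x).Normal := Subgroup.normalizer_eq_top_iff.1 (top_le_iff.1 hle)
    rcases hnorm.eq_bot_or_eq_top with h2 | h2
    · exact hx1 (zpowers_eq_bot.1 h2)
    · apply hna
      refine ⟨⟨fun a b => ?_⟩⟩
      obtain ⟨i, hi⟩ := mem_zpowers_iff.1 (show a ∈ zpowers x by rw [h2]; exact mem_top _)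
      obtain ⟨j, hj⟩ := mem_zpowers_iff.1 (show b ∈ zpowers x by rw [h2]; exact mem_top _)
      rw [← hi, ← hj, ← zpow_add, ← zpow_add, add_comm]
  have hxp : IsPGroup p (zpowers x) := IsPGroup.of_card (n := 1) (by rw [Nat.card_zpowers, hx, pow_one])
  obtain ⟨P, hxP⟩ := hxp.exists_le_sylow
  have hPs : Group.IsSolvable (P : Subgroup K) := isSolvable_of_isPGroup P.isPGroup'
  have hxP' : x ∈ (P : Subgroup K) := hxP (mem_zpowers x)
  -- `N_K(P) ≤ C_K(P)`
  have hNP : normalizer ((P : Subgroup K) : Set K) ≤ centralizer ((P : Subgroup K) : Set K) := by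
    have hpg : IsPGroup p ↥(normalizer ((P : Subgroup K) : Set K)) := by
      rw [IsPGroup.iff_card]
      refine ⟨_, Nat.eq_prime_pow_of_unique_prime_dvd Nat.card_pos.ne' ?_⟩
      intro r hr hrd
      by_contra hrp
      have hrF : Fact r.Prime := ⟨hr⟩
      obtain ⟨s, hs⟩ := exists_prime_orderOf_dvd_card' r hrd
      have hs' : orderOf (s : K) = r := by rw [Subgroup.orderOf_coe]; exact hs
      have hsn : ∀ a ∈ (P : Subgroup K), (s : K) * a * (s : K)⁻¹ ∈ (P : Subgroup K) := fun a ha =>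
        (Subgroup.mem_normalizer_iff.1 s.2 a).1 ha
      have h1 := isSolvable_sup_zpowers hPs hsn
      have h2 := h0 _ h1 (mem_sup_left hxP') s (mem_sup_right (mem_zpowers _))
      have h3 := step1 r hr hrp s ⟨1, by rw [pow_one]; exact hs'⟩ h2
      rw [h3, orderOf_one] at hs'
      exact hr.one_lt.ne hs'
    have h1 : normalizer ((P : Subgroup K) : Set K) = P := by
      exact P.is_maximal' hpg le_normalizer
    rw [h1]
    intro a ha
    rw [mem_centralizer_iff]
    intro b hb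
    exact hP P b hb a ha
  have hcomp := MonoidHom.ker_transferSylow_isComplement' P hNP
  rcases (inferInstance : (MonoidHom.transferSylow P hNP).ker.Normal).eq_bot_or_eq_top with h2 | h2
  · rw [h2] at hcomp
    have h3 : (P : Subgroup K) = ⊤ := Subgroup.isComplement'_bot_left.1 hcomp
    apply hna
    refine ⟨⟨fun a b => ?_⟩⟩
    exact hP P a (by rw [h3]; exact mem_top _) b (by rw [h3]; exact mem_top _)
  · rw [h2] at hcomp
    have h3 : (P : Subgroup K) = ⊥ := Subgroup.isComplement'_top_left.1 hcomp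
    rw [h3, mem_bot] at hxP'
    exact hx1 hxP'

/-! ### Groups normalised by `x` -/

theorem mem_norm {N : Subgroup K} {x : K} (h : ∀ a ∈ N, x * a * x⁻¹ ∈ N) : x ∈ normalizer (N : Set K) := by
  rw [Subgroup.mem_normalizer_iff_map_conj_eq]
  refine Subgroup.eq_of_le_of_card_ge ?_ (le_of_eq (Subgroup.card_map_of_injective
    (K := N) (MulAut.conj x).injective).symm)
  rintro _ ⟨a, ha, rfl⟩
  exact h a ha

/-- conjugation by `x` on a subgroup normalised by `x` -/
def cjA (N : Subgroup K) (x : K) (h : ∀ a ∈ N, x * a * x⁻¹ ∈ N) : MulAut N :=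
  N.normalizerMonoidHom ⟨x, mem_norm h⟩

theorem cjA_coe (N : Subgroup K) (x : K) (h : ∀ a ∈ N, x * a * x⁻¹ ∈ N) (a : N) :
    ((cjA N x h a : N) : K) = x * a * x⁻¹ := rfl

theorem cjA_pow (N : Subgroup K) (x : K) (h : ∀ a ∈ N, x * a * x⁻¹ ∈ N) {n : ℕ} (hn : x ^ n = 1) :
    cjA N x h ^ n = 1 := by
  unfold cjA
  rw [← map_pow]
  have : (⟨x, mem_norm h⟩ : ↥(normalizer (N : Set K))) ^ n = 1 := Subtype.ext hn
  rw [this, map_one]

/-- an `x`-invariant Sylow `t`-subgroup of an `x`-invariant `p'`-subgroup -/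
theorem exists_sylow_in {N : Subgroup K} {x : K} (hx : x ^ p = 1) (h : ∀ a ∈ N, x * a * x⁻¹ ∈ N)
    (hpN : ¬ p ∣ Nat.card N) {t : ℕ} (ht : t.Prime) :
    ∃ S : Subgroup K, S ≤ N ∧ IsPGroup t S ∧ Nat.card S = t ^ (Nat.card N).factorization t ∧
      ∀ a ∈ S, x * a * x⁻¹ ∈ S := by
  have htF : Fact t.Prime := ⟨ht⟩
  obtain ⟨S, hS⟩ := exists_inv_sylow (t := t) hpN (cjA N x h) ⟨1, by rw [pow_one]; exact cjA_pow N x h hx⟩
  refine ⟨(S : Subgroup N).map N.subtype, map_subtype_le _, S.isPGroup'.map _, ?_, ?_⟩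
  · rw [Subgroup.card_map_of_injective N.subtype_injective]
    exact S.card_eq_multiplicity
  · rintro _ ⟨a, ha, rfl⟩
    exact ⟨cjA N x h a, hS a ha, rfl⟩

/-- an `x`-invariant `p'`-group is centralised if its invariant `t`-subgroups are -/
theorem centralises_of_sylows {N : Subgroup K} {x : K} (hx : x ^ p = 1) (h : ∀ a ∈ N, x * a * x⁻¹ ∈ N)
    (hpN : ¬ p ∣ Nat.card N)
    (hc : ∀ t : ℕ, t.Prime → t ≠ p → ∀ R : Subgroup K, R ≤ N → IsPGroup t R → (∀ a ∈ R, x * a * x⁻¹ ∈ R) →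
      ∀ a ∈ R, x * a = a * x) : ∀ a ∈ N, x * a = a * x := by
  set C : Subgroup K := N ⊓ centralizer ({x} : Set K) with hC
  have hle : C ≤ N := inf_le_left
  have hmem : ∀ a ∈ N, x * a = a * x → a ∈ C := by
    intro a ha h1
    refine Subgroup.mem_inf.2 ⟨ha, ?_⟩
    rw [mem_centralizer_iff]
    intro y hy
    rw [Set.mem_singleton_iff.1 hy, h1]
  have hdvd : Nat.card N ∣ Nat.card C := by
    rw [← Nat.factorization_le_iff_dvd Nat.card_pos.ne' Nat.card_pos.ne']
    intro t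
    by_cases ht : t.Prime
    swap
    · rw [Nat.factorization_eq_zero_of_not_prime _ ht]
      exact Nat.zero_le _
    by_cases htp : t = p
    · rw [htp, Nat.factorization_eq_zero_of_not_dvd hpN]
      exact Nat.zero_le _
    obtain ⟨S, hSN, hSt, hSc, hSx⟩ := exists_sylow_in hx h hpN ht
    have h1 : S ≤ C := fun a ha => hmem a (hSN ha) (hc t ht htp S hSN hSt hSx a ha)
    have h2 := Subgroup.card_dvd_of_le h1
    rw [hSc] at h2
    exact (ht.pow_dvd_iff_le_factorization Nat.card_pos.ne').1 h2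
  have h1 : C = N := Subgroup.eq_of_le_of_card_ge hle (Nat.le_of_dvd Nat.card_pos hdvd)
  intro a ha
  rw [← h1] at ha
  exact mem_centralizer_iff.1 ha.2 x rfl

/-- the core of a solvable subgroup is centralised : `M0` -/
theorem mem_zpowers_of_core {x : K} (hx : orderOf x = p) {H N : Subgroup K} (hpN : ¬ p ∣ Nat.card N)
    (hN : ∀ h ∈ H, ∃ k : ℤ, ∃ n ∈ N, h * x * h⁻¹ = x ^ k * n) (hc : ∀ a ∈ N, x * a = a * x) :
    ∀ h ∈ H, h * x * h⁻¹ ∈ zpowers x := by
  intro h hh
  obtain ⟨k, n, hn, h1⟩ := hN h hh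
  have hcn : Commute (x ^ k) n := Commute.zpow_left (show x * n = n * x from hc n hn) k
  have h2 : n ^ p = 1 := by
    have h3 : (h * x * h⁻¹) ^ p = 1 := by
      rw [conj_pow, ← hx, pow_orderOf_eq_one, mul_one, mul_inv_cancel]
    rw [h1, hcn.mul_pow, ← zpow_natCast, ← zpow_mul, mul_comm k, zpow_mul, zpow_natCast, ← hx, pow_orderOf_eq_one,
      one_zpow, one_mul, hx] at h3
    exact h3
  have h3 : n = 1 := by
    by_contra hn1
    apply hpN
    have h4 : orderOf n = p := orderOf_eq_prime h2 hn1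
    have h5 : orderOf (⟨n, hn⟩ : N) = p := by rw [Subgroup.orderOf_mk]; exact h4
    rw [← h5]
    exact orderOf_dvd_natCard _
  rw [h1, h3, mul_one]
  exact zpow_mem (mem_zpowers x) k

theorem M0.of_triv (hcyc : ∀ P : Sylow p K, IsCyclic (P : Subgroup K)) {x : K} (hx : orderOf x = p)
    (hc : ∀ t : ℕ, t.Prime → t ≠ p → ∀ R : Subgroup K, IsPGroup t R → (∀ a ∈ R, x * a * x⁻¹ ∈ R) →
      ∀ a ∈ R, x * a = a * x) : M0 x := by
  intro H hH hxH
  obtain ⟨N, hNH, hNn, hpN, hk⟩ := cyc_core' hcyc hx hH hxH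
  refine mem_zpowers_of_core hx hpN hk ?_
  exact centralises_of_sylows (by rw [← hx]; exact pow_orderOf_eq_one x) (hNn x hxH) hpN
    fun t ht htp R _ => hc t ht htp R

/-- an element of prime power order of a subgroup normalised by `x` : the block lemma -/
theorem pow_eq_one_of_blk (hcyc : ∀ P : Sylow p K, IsCyclic (P : Subgroup K)) (hb : Blk p K) {x : K}
    (hx : orderOf x = p) (hY : YE p x) {r : ℕ} (hr : r.Prime) (hrp : r ≠ p) {y : K} (hy : ∃ k : ℕ, orderOf y = r ^ k)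
    (hs : Group.IsSolvable ↥(closure ({x, y} : Set K))) : y ^ (p - 1) = 1 := by
  refine hb hcyc x y hx ?_ (hY r hr hrp y hy hs)
  obtain ⟨k, hk⟩ := hy
  rw [hk]
  exact Nat.Coprime.pow_left k ((Nat.coprime_primes hr hp.out).2 hrp)

theorem M0.of_triv_blk (hcyc : ∀ P : Sylow p K, IsCyclic (P : Subgroup K)) (hb : Blk p K) {x : K}
    (hx : orderOf x = p) (hY : YE p x)
    (hc : ∀ t : ℕ, t.Prime → t ≠ p → t ∣ p - 1 → ∀ R : Subgroup K, IsPGroup t R → (∀ a ∈ R, x * a * x⁻¹ ∈ R) →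
      ∀ a ∈ R, x * a = a * x) : M0 x := by
  refine M0.of_triv hcyc hx fun t ht htp R hR hxR => ?_
  by_cases htd : t ∣ p - 1
  · exact hc t ht htp htd R hR hxR
  · have htF : Fact t.Prime := ⟨ht⟩
    intro a ha
    have h1 : a ^ (p - 1) = 1 := by
      refine pow_eq_one_of_blk hcyc hb hx hY ht htp ?_ (isSolvable_pair (isSolvable_of_isPGroup hR) hxR ha)
      obtain ⟨k, hk⟩ := (IsPGroup.iff_orderOf.1 hR) ⟨a, ha⟩
      exact ⟨k, by rw [← hk, Subgroup.orderOf_mk]⟩
    obtain ⟨k, hk⟩ := (IsPGroup.iff_orderOf.1 hR) ⟨a, ha⟩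
    rw [Subgroup.orderOf_mk] at hk
    have h2 : orderOf a ∣ p - 1 := orderOf_dvd_of_pow_eq_one h1
    have h3 : orderOf a = 1 := by
      rw [hk] at h2 ⊢
      rcases Nat.eq_zero_or_pos k with h4 | h4
      · rw [h4, pow_zero]
      · exact absurd ((dvd_pow_self t h4.ne').trans h2) htd
    rw [orderOf_eq_one_iff] at h3
    rw [h3, mul_one, one_mul]

/-- a `t`-group normalised by `x` is centralised if `p ∤ t ^ i - 1` for `t ^ i ∣ |K|`, `i > 0` -/
theorem centralises_of_card {x : K} (hx : orderOf x = p) {t : ℕ} (ht : t.Prime) (htp : t ≠ p)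
    (h : ∀ i : ℕ, 0 < i → t ^ i ∣ Nat.card K → ¬ t ^ i ≡ 1 [MOD p]) {R : Subgroup K} (hR : IsPGroup t R)
    (hxR : ∀ a ∈ R, x * a * x⁻¹ ∈ R) : ∀ a ∈ R, x * a = a * x := by
  have htF : Fact t.Prime := ⟨ht⟩
  have hxp : x ^ p = 1 := by rw [← hx]; exact pow_orderOf_eq_one x
  have hpR : ¬ p ∣ Nat.card R := by
    obtain ⟨n, hn⟩ := hR.exists_card_eq
    rw [hn]
    intro h1
    exact htp ((Nat.prime_dvd_prime_iff_eq hp.out ht).1 (hp.out.dvd_of_dvd_pow h1)).symm
  have h1 := index_fixed hpR (cjA R x hxR) ⟨1, by rw [pow_one]; exact cjA_pow R x hxR hxp⟩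
  obtain ⟨i, hi⟩ := hR.index (fixS (cjA R x hxR))
  rw [hi] at h1
  have h2 : i = 0 := by
    by_contra h3
    refine h i (Nat.pos_of_ne_zero h3) ?_ h1
    rw [← hi]
    exact (Subgroup.index_dvd_card _).trans (Subgroup.card_subgroup_dvd_card R)
  rw [h2, pow_zero, Subgroup.index_eq_one] at hi
  intro a ha
  have h3 : (⟨a, ha⟩ : R) ∈ fixS (cjA R x hxR) := by rw [hi]; exact mem_top _
  have h4 : x * a * x⁻¹ = a := by
    have h5 := congrArg Subtype.val (mem_fixS.1 h3)
    rwa [cjA_coe] at h5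
  calc x * a = (x * a * x⁻¹) * x := by group
    _ = a * x := by rw [h4]

/-! ### Gow's theorem and the criterion `Zc` -/

/-- `⟨x, y⟩` solvable, `y` of prime order `s ≠ p` : the order of `x⁻¹ y` is divisible by `p` or `s` -/
theorem not_coprime_of_solvable (hcyc : ∀ P : Sylow p K, IsCyclic (P : Subgroup K)) {x y : K} (hx : orderOf x = p)
    {s : ℕ} (hs : s.Prime) (hsp : s ≠ p) (hy : orderOf y = s)
    (hsol : Group.IsSolvable ↥(closure ({x, y} : Set K))) : ¬ (orderOf (x⁻¹ * y)).Coprime (p * s) := by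
  intro hcop
  set H : Subgroup K := closure ({x, y} : Set K) with hH
  have hxH : x ∈ H := subset_closure (by simp)
  have hyH : y ∈ H := subset_closure (by simp)
  obtain ⟨N, hN, hpN, hXN⟩ := cyc_core (fun S => cyclic_of_le hcyc H S) (x := (⟨x, hxH⟩ : H))
    (by rw [Subgroup.orderOf_mk]; exact hx)
  -- everything modulo `N`, and modulo `⟨x⟩ N`
  set X : Subgroup H := zpowers (⟨x, hxH⟩ : H) ⊔ N with hX
  set z : H := (⟨x, hxH⟩ : H)⁻¹ * ⟨y, hyH⟩ with hz
  have hzo : orderOf z = orderOf (x⁻¹ * y) := by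
    rw [hz]
    exact (Subgroup.orderOf_coe _).symm
  -- the image of `z` modulo `X` has order dividing `s`
  have h1 : QuotientGroup.mk' X z = QuotientGroup.mk' X ⟨y, hyH⟩ := by
    rw [hz, map_mul, map_inv]
    have : QuotientGroup.mk' X ⟨x, hxH⟩ = 1 := (QuotientGroup.eq_one_iff _).2 (mem_sup_left (mem_zpowers _))
    rw [this, inv_one, one_mul]
  have h2 : orderOf (QuotientGroup.mk' X z) = 1 := by
    have h3 : orderOf (QuotientGroup.mk' X z) ∣ s := by
      rw [h1]
      have h4 := orderOf_map_dvd (QuotientGroup.mk' X) (⟨y, hyH⟩ : H)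
      rwa [Subgroup.orderOf_mk, hy] at h4
    have h5 : orderOf (QuotientGroup.mk' X z) ∣ orderOf (x⁻¹ * y) := by
      rw [← hzo]; exact orderOf_map_dvd _ _
    have h6 := (Nat.coprime_mul_iff_right.1 hcop).2
    exact Nat.dvd_one.1 (h6 ▸ Nat.dvd_gcd h5 h3)
  rw [orderOf_eq_one_iff] at h2
  have hyX : (⟨y, hyH⟩ : H) ∈ X := by
    rw [h1] at h2
    exact (QuotientGroup.eq_one_iff _).1 h2
  -- `X / N` is a `p`-group, so `y ∈ N`
  have hyN : (⟨y, hyH⟩ : H) ∈ N := by
    obtain ⟨a, ha, n, hn, h3⟩ := (Subgroup.mem_sup_of_normal_right (ht := hN)).1 hyX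
    obtain ⟨k, rfl⟩ := mem_zpowers_iff.1 ha
    have h4 : QuotientGroup.mk' N ⟨y, hyH⟩ = (QuotientGroup.mk' N ⟨x, hxH⟩) ^ k := by
      rw [← h3, map_mul, map_zpow]
      have : QuotientGroup.mk' N n = 1 := (QuotientGroup.eq_one_iff _).2 hn
      rw [this, mul_one]
    have h5 : (QuotientGroup.mk' N ⟨y, hyH⟩) ^ p = 1 := by
      rw [h4, ← zpow_natCast, ← zpow_mul, mul_comm, zpow_mul, zpow_natCast, ← map_pow]
      have : (⟨x, hxH⟩ : H) ^ p = 1 := Subtype.ext (by
        show x ^ p = 1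
        rw [← hx]; exact pow_orderOf_eq_one x)
      rw [this, map_one, one_zpow]
    have h6 : (QuotientGroup.mk' N ⟨y, hyH⟩) ^ s = 1 := by
      rw [← map_pow]
      have : (⟨y, hyH⟩ : H) ^ s = 1 := Subtype.ext (by
        show y ^ s = 1
        rw [← hy]; exact pow_orderOf_eq_one y)
      rw [this, map_one]
    have h7 : orderOf (QuotientGroup.mk' N (⟨y, hyH⟩ : H)) = 1 := by
      have h8 : (Nat.Coprime p s) := (Nat.coprime_primes hp.out hs).2 (Ne.symm hsp)
      exact Nat.dvd_one.1 (h8 ▸ Nat.dvd_gcd (orderOf_dvd_of_pow_eq_one h5) (orderOf_dvd_of_pow_eq_one h6))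
    rw [orderOf_eq_one_iff] at h7
    exact (QuotientGroup.eq_one_iff _).1 h7
  -- so `z = x⁻¹` modulo `N`
  have h3 : QuotientGroup.mk' N z = (QuotientGroup.mk' N ⟨x, hxH⟩)⁻¹ := by
    rw [hz, map_mul, map_inv]
    have : QuotientGroup.mk' N ⟨y, hyH⟩ = 1 := (QuotientGroup.eq_one_iff _).2 hyN
    rw [this, mul_one]
  have h4 : orderOf (QuotientGroup.mk' N z) ∣ p := by
    rw [h3, orderOf_inv]
    have h5 := orderOf_map_dvd (QuotientGroup.mk' N) (⟨x, hxH⟩ : H)
    rwa [Subgroup.orderOf_mk, hx] at h5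
  have h5 : orderOf (QuotientGroup.mk' N z) ∣ orderOf (x⁻¹ * y) := by
    rw [← hzo]; exact orderOf_map_dvd _ _
  have h6 : orderOf (QuotientGroup.mk' N z) = 1 :=
    Nat.dvd_one.1 ((Nat.coprime_mul_iff_right.1 hcop).1 ▸ Nat.dvd_gcd h5 h4)
  rw [h3, orderOf_inv, orderOf_eq_one_iff] at h6
  have h7 : (⟨x, hxH⟩ : H) ∈ N := (QuotientGroup.eq_one_iff _).1 h6
  apply hpN
  have h8 : orderOf (⟨⟨x, hxH⟩, h7⟩ : N) = p := by
    rw [Subgroup.orderOf_mk, Subgroup.orderOf_mk]; exact hx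
  rw [← h8]
  exact orderOf_dvd_natCard _

/-- `x` acts on no `r`-group : its centralizer has order prime to `r` -/
theorem not_dvd_of_not_fixR {r : ℕ} [Fact r.Prime] {x : K} (hF : ¬ FixR r (MulAut.conj x)) :
    ¬ r ∣ Nat.card (centralizer ({x} : Set K)) := by
  intro h
  obtain ⟨v, hv⟩ := exists_prime_orderOf_dvd_card' r h
  apply hF
  have hv' : orderOf (v : K) = r := by rw [Subgroup.orderOf_coe]; exact hv
  refine FixR.of_mem (v := (v : K)) ?_ ?_ ⟨1, ?_⟩
  · intro h1
    rw [h1, orderOf_one] at hv'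
    exact (Fact.out : r.Prime).one_lt.ne hv'
  · rw [MulAut.conj_apply]
    have h2 := mem_centralizer_iff.1 v.2 x rfl
    rw [h2, mul_inv_cancel_right]
  · rw [pow_one, ← hv', pow_orderOf_eq_one]

/-- `M0` if the only primes `s ≠ p` for which `x` generates a solvable group with an element of order `s` is `r` -/
theorem M0.of_only {r : ℕ} [hr : Fact r.Prime] (hcyc : ∀ P : Sylow p K, IsCyclic (P : Subgroup K)) {x : K}
    (hx : orderOf x = p) (hF : ¬ FixR r (MulAut.conj x))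
    (h : ∀ s : ℕ, s.Prime → s ≠ p → s ≠ r → ∀ y : K, orderOf y = s →
      ¬ Group.IsSolvable ↥(closure ({x, y} : Set K))) : M0 x := by
  intro H hH hxH
  obtain ⟨N, hNH, hNn, hpN, hk⟩ := cyc_core' hcyc hx hH hxH
  have hNr : IsPGroup r N := by
    rw [IsPGroup.iff_card]
    refine ⟨_, Nat.eq_prime_pow_of_unique_prime_dvd Nat.card_pos.ne' ?_⟩
    intro s hs hsd
    by_contra hsr
    have hsF : Fact s.Prime := ⟨hs⟩
    have hsp : s ≠ p := by rintro rfl; exact hpN hsd
    obtain ⟨y, hy⟩ := exists_prime_orderOf_dvd_card' s hsd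
    have hy' : orderOf (y : K) = s := by rw [Subgroup.orderOf_coe]; exact hy
    refine h s hs hsp hsr y hy' (isSolvable_of_le ?_ hH)
    rw [closure_le]
    rintro z (rfl | rfl)
    · exact hxH
    · exact hNH y.2
  have hN0 : N = ⊥ := by
    by_contra hne
    exact hF ⟨N, hne, hNr, fun a ha => hNn x hxH a ha⟩
  refine mem_zpowers_of_core hx hpN hk ?_
  rw [hN0]
  intro a ha
  rw [mem_bot.1 ha, mul_one, one_mul]

/-- **the groups of Lie type** : `x` inner, the Sylow `p`-subgroups cyclic -/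
theorem false_of_crow [IsSimpleGroup K] (hna : ¬ IsMulCommutative K) {r : ℕ} [hr : Fact r.Prime]
    (hb : Blk p K) (hg : Gw r K) {x : K} (hx : orderOf x = p) (hY : YE p x)
    (hcyc : ∀ P : Sylow p K, IsCyclic (P : Subgroup K)) (hF : ¬ FixR r (MulAut.conj x))
    (h : M0 x ∨ Zc r p K) : False := by
  have hcomm : ∀ P : Sylow p K, ∀ a ∈ (P : Subgroup K), ∀ b ∈ (P : Subgroup K), a * b = b * a := by
    intro P a ha b hb
    have h1 := hcyc P
    have h2 : (⟨a, ha⟩ : (P : Subgroup K)) * ⟨b, hb⟩ = ⟨b, hb⟩ * ⟨a, ha⟩ :=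
      (IsCyclic.commGroup (α := (P : Subgroup K))).mul_comm _ _
    exact congrArg Subtype.val h2
  rcases h with h | hZ
  · exact h.false hna hcomm hx hY
  by_cases hA : ∃ s : ℕ, s.Prime ∧ s ≠ p ∧ s ≠ r ∧ ∃ y : K, orderOf y = s ∧
      Group.IsSolvable ↥(closure ({x, y} : Set K))
  · obtain ⟨s, hs, hsp, hsr, y, hy, hsol⟩ := hA
    have h1 : s ∣ p - 1 := by
      have h2 := pow_eq_one_of_blk hcyc hb hx hY hs hsp ⟨1, by rw [pow_one]; exact hy⟩ hsol
      rw [← hy]
      exact orderOf_dvd_of_pow_eq_one h2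
    obtain ⟨z, hz1, hzr, hzc⟩ := hZ s hs h1 hsr
    have hy1 : y ≠ 1 := by
      rintro rfl
      rw [orderOf_one] at hy
      exact hs.one_lt.ne hy
    obtain ⟨g, k, h2⟩ := hg x z y (not_dvd_of_not_fixR hF) hzr hy1 (by
      rw [hy]
      intro h3
      exact hsr ((Nat.prime_dvd_prime_iff_eq hr.out hs).1 h3).symm)
    have h3 := hY s hs hsp y ⟨1, by rw [pow_one]; exact hy⟩ hsol g⁻¹
    have ho : orderOf (g⁻¹ * y * g⁻¹⁻¹) = s := by
      rw [← hy]
      exact orderOf_injective (MulAut.conj g⁻¹).toMonoidHom (MulAut.conj g⁻¹).injective y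
    apply not_coprime_of_solvable hcyc hx hs hsp ho h3
    have h4 : x⁻¹ * (g⁻¹ * y * g⁻¹⁻¹) = (g⁻¹ * k) * z * (g⁻¹ * k)⁻¹ := by
      rw [← h2]
      group
    have h5 : orderOf ((g⁻¹ * k) * z * (g⁻¹ * k)⁻¹) = orderOf z :=
      orderOf_injective (MulAut.conj (g⁻¹ * k)).toMonoidHom (MulAut.conj (g⁻¹ * k)).injective z
    rw [h4, h5]
    exact hzc
  · push Not at hA
    have h0 : M0 x := M0.of_only hcyc hx hF fun s hs hsp hsr y hy hsol => hA s hs hsp hsr y hy hsol
    exact h0.false hna hcomm hx hY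

end Cfsg.Agent.H301.SY
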