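import Mathlib
import Cfsg.Agent.H301.SY.Tools

/-!
# S3846: the interface of the sporadic rows (helper301)

* `NoE p K` : no element `x` of order `p` of `K` satisfies `RE x` and `YE p x`;
* `ThO p K` : Theorem O (task 1494) for `K`;
* `m0_num` : `M0 x` from Theorem O, the block lemma and numerical conditions;
* `NoE.of_even` : every element of order `p` commutes with an involution `u` whose centralizer has a radical of order
  prime to `p`;
* `NoE.of_sub` : every element of order `p` is conjugate into a proper subgroup with radical of order prime to `p`.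
-/

set_option autoImplicit false
set_option linter.unusedSectionVars false

namespace Cfsg.Agent.H301.SY

open Cfsg Subgroup Cfsg.Agent.H459.Rad Cfsg.Agent.H459.Iface Cfsg.Agent.SignalizersComponents.ComponentExists

/-- no element `x` of order `p` of `K` satisfies `RE x` and `YE p x` -/
def NoE (p : ℕ) (K : Type*) [Group K] : Prop := ∀ x : K, orderOf x = p → RE x → YE p x → False

/-- Theorem O -/
def ThO (p : ℕ) (K : Type*) [Group K] : Prop :=
  (∀ P : Sylow p K, IsCyclic (P : Subgroup K)) → ∀ t : ℕ, t.Prime → t ≠ p → ∀ x : K, orderOf x = p → RE x →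
    ¬ t ∣ Nat.card (centralizer ({x} : Set K)) → ∀ R : Subgroup K, R ≠ ⊥ → IsPGroup t R →
    (∀ a ∈ R, x * a * x⁻¹ ∈ R) → ∀ T : Sylow t K, ∃ a j n : ℕ, Nat.card T = t ^ (a + j) ∧ p ∣ t ^ a - 1 ∧
      t ^ j ∣ p - 1 ∧ 0 < n ∧ p ∣ t ^ n - 1 ∧ n ≤ a ∧ ∃ W : Subgroup K, W ≤ T ∧
        (∀ w ∈ W, ∀ u ∈ (T : Subgroup K), w * u = u * w) ∧ (∀ w ∈ W, w ^ t = 1) ∧ t ^ n ≤ Nat.card W ^ (t ^ j)

section Congr

variable {K L : Type*} [Group K] [Group L] [Finite K] [Finite L]

theorem RE.map (e : K ≃* L) {x : K} (h : RE x) : RE (e x) := by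
  intro M hM hx
  have hne : M.map e.symm.toMonoidHom ≠ ⊤ := by
    intro h1
    apply hM
    rw [eq_top_iff]
    intro y _
    have h2 : e.symm y ∈ M.map e.symm.toMonoidHom := by rw [h1]; exact mem_top _
    obtain ⟨z, hz, h3⟩ := h2
    have h4 : z = y := e.symm.injective h3
    rwa [← h4]
  have h1 := h (M.map e.symm.toMonoidHom) hne ⟨e x, hx, by simp⟩
  have h2 : e x ∈ (radIn (M.map e.symm.toMonoidHom)).map e.toMonoidHom := ⟨x, h1, rfl⟩
  refine (le_radIn ?_ ?_ (isSolvable_map (radIn_solvable _) _)) h2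
  · rintro _ ⟨k, hk, rfl⟩
    obtain ⟨m, hm, rfl⟩ := radIn_le _ hk
    simpa using hm
  · rintro g hg _ ⟨n, hn, rfl⟩
    refine ⟨e.symm g * n * (e.symm g)⁻¹, radIn_conj_mem ⟨g, hg, rfl⟩ hn, by simp⟩

theorem YE.map (e : K ≃* L) {p : ℕ} {x : K} (h : YE p x) : YE p (e x) := by
  have key : ∀ y : K, (closure ({x, y} : Set K)).map e.toMonoidHom = closure ({e x, e y} : Set L) := by
    intro y
    rw [MonoidHom.map_closure, Set.image_pair]
    rfl
  intro r hr hrp y hy hs g
  have h1 := key (e.symm y)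
  rw [e.apply_symm_apply] at h1
  rw [← h1] at hs
  have hs' : Group.IsSolvable ↥(closure ({x, e.symm y} : Set K)) :=
    Group.isSolvable_of_isSolvable_injective
      (f := ((closure ({x, e.symm y} : Set K)).equivMapOfInjective e.toMonoidHom e.injective).toMonoidHom)
      (MulEquiv.injective _)
  have h2 := h r hr hrp (e.symm y) (by
    obtain ⟨k, hk⟩ := hy
    exact ⟨k, by rw [← hk]; exact orderOf_injective e.symm.toMonoidHom e.symm.injective y⟩) hs' (e.symm g)
  have h3 := key (e.symm g * e.symm y * (e.symm g)⁻¹)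
  have h4 : e (e.symm g * e.symm y * (e.symm g)⁻¹) = g * y * g⁻¹ := by simp
  rw [h4] at h3
  rw [← h3]
  exact isSolvable_map h2 _

theorem NoE.congr {p : ℕ} (e : K ≃* L) (h : NoE p L) : NoE p K := fun x hx hR hY =>
  h (e x) (by rw [← hx]; exact orderOf_injective e.toMonoidHom e.injective x) (hR.map e) (hY.map e)

end Congr

variable {K : Type*} [Group K] [Finite K] {p : ℕ} [hp : Fact p.Prime]

/-- from the elements of `K` to the automorphisms -/
theorem NoYA.of_noE [IsSimpleGroup K] (hna : ¬ IsMulCommutative K)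
    (hinn : ∀ x : MulAut K, orderOf x = p → ∃ g, x = MulAut.conj g) (h : NoE p K) : NoYA p K := by
  intro x hx hR hY
  obtain ⟨g, rfl⟩ := hinn x hx
  refine h g ?_ (RE.of_rc hR) (YE.of_ya (center_eq_bot hna) hY)
  rw [← hx]
  exact (orderOf_injective (MulAut.conj : K →* MulAut K) (conj_injective (center_eq_bot hna)) g).symm

/-- `M0` for all `x` -/
theorem NoE.of_m0 [IsSimpleGroup K] (hna : ¬ IsMulCommutative K)
    (hcyc : ∀ P : Sylow p K, IsCyclic (P : Subgroup K))
    (h : ∀ x : K, orderOf x = p → RE x → YE p x → M0 x) : NoE p K := by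
  intro x hx hR hY
  refine (h x hx hR hY).false hna ?_ hx hY
  intro P a ha b hb
  have h1 := hcyc P
  have h2 : (⟨a, ha⟩ : (P : Subgroup K)) * ⟨b, hb⟩ = ⟨b, hb⟩ * ⟨a, ha⟩ :=
    (IsCyclic.commGroup (α := (P : Subgroup K))).mul_comm _ _
  exact congrArg Subtype.val h2

/-- the Sylow `p`-subgroups are cyclic if `p ^ 2 ∤ |K|` -/
theorem cyclic_of_card (h : ¬ p ^ 2 ∣ Nat.card K) (P : Sylow p K) : IsCyclic (P : Subgroup K) := by
  obtain ⟨n, hn⟩ := P.isPGroup'.exists_card_eq
  have h1 : n ≤ 1 := by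
    by_contra h2
    apply h
    exact (pow_dvd_pow p (by omega)).trans (hn ▸ Subgroup.card_subgroup_dvd_card (P : Subgroup K))
  rcases Nat.le_one_iff_eq_zero_or_eq_one.1 h1 with h2 | h2
  · rw [h2, pow_zero] at hn
    exact isCyclic_of_card_dvd_prime (p := p) (by rw [hn]; exact one_dvd _)
  · rw [h2, pow_one] at hn
    exact isCyclic_of_prime_card hn

/-- **`M0` from numerical conditions** : for every prime divisor `t ≠ p` of `p - 1` either `p ∤ t ^ i - 1` whenever
`t ^ i ∣ |K|`, `i > 0`, or `t ∤ |C(x)|` and the conclusion of Theorem O is impossible -/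
theorem m0_num (hcyc : ∀ P : Sylow p K, IsCyclic (P : Subgroup K)) (hb : Blk p K) (hO : ThO p K) {x : K}
    (hx : orderOf x = p) (hR : RE x) (hY : YE p x)
    (h : ∀ t : ℕ, t.Prime → t ≠ p → t ∣ p - 1 →
      (∀ i : ℕ, 0 < i → t ^ i ∣ Nat.card K → ¬ t ^ i ≡ 1 [MOD p]) ∨
      (¬ t ∣ Nat.card (centralizer ({x} : Set K)) ∧ ∃ T : Sylow t K, ∀ a j n : ℕ,
        Nat.card T = t ^ (a + j) → p ∣ t ^ a - 1 → t ^ j ∣ p - 1 → 0 < n → p ∣ t ^ n - 1 → n ≤ a →
        (∃ W : Subgroup K, W ≤ T ∧ (∀ w ∈ W, ∀ u ∈ (T : Subgroup K), w * u = u * w) ∧ (∀ w ∈ W, w ^ t = 1) ∧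
          t ^ n ≤ Nat.card W ^ (t ^ j)) → False)) : M0 x := by
  refine M0.of_triv_blk hcyc hb hx hY fun t ht htp htd R hRt hxR => ?_
  rcases h t ht htp htd with h1 | ⟨h1, T, h2⟩
  · exact centralises_of_card hx ht htp h1 hRt hxR
  · by_cases h0 : R = ⊥
    · rw [h0]
      intro a ha
      rw [mem_bot.1 ha, mul_one, one_mul]
    · exfalso
      obtain ⟨a, j, n, h3, h4, h5, h6, h7, h8, h9⟩ := hO hcyc t ht htp x hx hR h1 R h0 hRt hxR T
      exact h2 a j n h3 h4 h5 h6 h7 h8 h9

/-- a proper subgroup `L` of order divisible by `p`, with `p ∤ |Rad L|`, Sylow `p`-subgroups cyclic -/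
theorem NoE.of_lw (hcyc : ∀ P : Sylow p K, IsCyclic (P : Subgroup K)) (h : Lw p K) : NoE p K :=
  fun _ hx hR _ => h.false hx hR hcyc

/-- every element of order `p` is conjugate into a proper subgroup `L` with `p ∤ |Rad L|` -/
theorem NoE.of_sub (h : ∀ x : K, orderOf x = p → ∃ L : Subgroup K, L ≠ ⊤ ∧ x ∈ L ∧ ¬ p ∣ Nat.card (radIn L)) :
    NoE p K := by
  intro x hx hR _
  obtain ⟨L, hL, hxL, hr⟩ := h x hx
  have h1 := hR L hL hxL
  apply hr
  have h2 : orderOf (⟨x, h1⟩ : radIn L) = p := by rw [Subgroup.orderOf_mk]; exact hx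
  rw [← h2]
  exact orderOf_dvd_natCard _

/-- if `L` contains a Sylow `p`-subgroup then every element of order `p` is conjugate into `L` -/
theorem NoE.of_sylow {L : Subgroup K} (hL : L ≠ ⊤) (P : Sylow p K) (hP : (P : Subgroup K) ≤ L)
    (hr : ¬ p ∣ Nat.card (radIn L)) : NoE p K := by
  refine NoE.of_sub fun x hx => ?_
  have hxp : IsPGroup p (zpowers x) := IsPGroup.of_card (n := 1) (by rw [Nat.card_zpowers, hx, pow_one])
  obtain ⟨Q, hQ⟩ := hxp.exists_le_sylow
  obtain ⟨g, hg⟩ := MulAction.exists_smul_eq K P Q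
  refine ⟨L.map (MulAut.conj g).toMonoidHom, ?_, ?_, ?_⟩
  · intro h1
    apply hL
    rw [eq_top_iff]
    intro y _
    have h2 : MulAut.conj g y ∈ L.map (MulAut.conj g).toMonoidHom := by rw [h1]; exact mem_top _
    obtain ⟨z, hz, h3⟩ := h2
    have h4 : z = y := (MulAut.conj g).injective h3
    rwa [← h4]
  · have h1 : x ∈ (Q : Subgroup K) := hQ (mem_zpowers x)
    rw [← hg, Sylow.coe_subgroup_smul] at h1
    obtain ⟨y, hy, h2⟩ := h1
    exact ⟨y, hP hy, h2⟩
  · rw [radIn_conj, Subgroup.card_map_of_injective (MulAut.conj g).injective]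
    exact hr

/-- every element of order `p` commutes with an element `u ≠ 1` with `p ∤ |Rad C(u)|` -/
theorem NoE.of_even (hZ : center K = ⊥) (h : ∀ x : K, orderOf x = p → ∃ u : K, u ≠ 1 ∧ u * x = x * u ∧
    ¬ p ∣ Nat.card (radIn (centralizer ({u} : Set K)))) : NoE p K := by
  refine NoE.of_sub fun x hx => ?_
  obtain ⟨u, hu, hux, hr⟩ := h x hx
  refine ⟨centralizer ({u} : Set K), ?_, ?_, hr⟩
  · intro h1
    apply hu
    have h2 : u ∈ center K := by
      rw [mem_center_iff]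
      intro g
      exact (mem_centralizer_iff.1 (show g ∈ centralizer ({u} : Set K) by rw [h1]; exact mem_top _) u rfl).symm
    rwa [hZ, mem_bot] at h2
  · rw [mem_centralizer_iff]
    intro y hy
    rw [Set.mem_singleton_iff.1 hy, hux]

end Cfsg.Agent.H301.SY
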