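import Mathlib
import Cfsg.Agent.H301.SY.Rep
import Cfsg.Agent.H301.SY.Spor
import Cfsg.Agent.H839.Rad.Center

/-!
# S3846: transvections (helper301)

`Tv p x` : there are no commuting `w`, `w₁` of order `p`, generating a group of order `p ^ 2`, with `x` fixing `w` and
mapping `w₁` to `w₁ w ^ j`, and an element `q` fixing `w₁` and mapping `w` to `w w₁ ^ k`, `p ∤ j k`.

* `Tv.of_ye` : `RE x` and `YE p x` imply `Tv p x` (`p ≥ 5`): some `r`-element `y` of `⟨x, q⟩` acts as `diag(t, t⁻¹)`, `t ^ 2 ≠ 1`;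
  then `⟨x, y⟩` is solvable, as `x ∈ Rad C(w)`, but `⟨x, n y n⁻¹⟩` is not;
* `Centre.false_of_mem_tv`, `Centre.noE_of_sylow`.
-/

set_option autoImplicit false
set_option linter.unusedSectionVars false

namespace Cfsg.Agent.H301.SY

open Cfsg Subgroup Cfsg.Agent.H459.Rad Cfsg.Agent.H459.Iface Cfsg.Agent.H839.Rad
open Cfsg.Agent.SignalizersComponents.ComponentExists
open Matrix (SpecialLinearGroup)
open ClassicalGeometry.SplitTorus (up lo dg dgHom mul00 mul01 mul10 mul11 inv00 inv01 inv10 inv11 ext2 up_add up_zero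
  mem_of_up_lo)

variable {K : Type*} [Group K] {p : ℕ}

/-- no configuration of transvections -/
def Tv (p : ℕ) (x : K) : Prop :=
  ∀ (w w₁ q : K) (j k : ℤ), orderOf w = p → orderOf w₁ = p → w * w₁ = w₁ * w → w₁ ∉ zpowers w → ¬ (p : ℤ) ∣ j →
    ¬ (p : ℤ) ∣ k → x * w = w * x → x * w₁ * x⁻¹ = w₁ * w ^ j → q * w₁ = w₁ * q → q * w * q⁻¹ = w * w₁ ^ k → False

theorem Tv.conj {x : K} (h : Tv p x) (g : K) : Tv p (g * x * g⁻¹) := by
  intro w w₁ q j k h1 h2 h3 h4 h5 h6 h7 h8 h9 h10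
  have o : ∀ a : K, orderOf (g⁻¹ * a * g) = orderOf a := fun a => by
    have e : g⁻¹ * a * g = MulAut.conj g⁻¹ a := by rw [MulAut.conj_apply, inv_inv]
    rw [e, MulEquiv.orderOf_eq]
  have ez : ∀ (a : K) (i : ℤ), (g⁻¹ * a * g) ^ i = g⁻¹ * a ^ i * g := fun a i => by
    have := conj_zpow (a := g⁻¹) (b := a) (i := i)
    rwa [inv_inv] at this
  refine h (g⁻¹ * w * g) (g⁻¹ * w₁ * g) (g⁻¹ * q * g) j k (by rw [o, h1]) (by rw [o, h2]) ?_ ?_ h5 h6 ?_ ?_ ?_ ?_
  · calc g⁻¹ * w * g * (g⁻¹ * w₁ * g) = g⁻¹ * (w * w₁) * g := by group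
      _ = g⁻¹ * (w₁ * w) * g := by rw [h3]
      _ = _ := by group
  · intro hc
    obtain ⟨i, hi⟩ := mem_zpowers_iff.1 hc
    apply h4
    refine mem_zpowers_iff.2 ⟨i, ?_⟩
    rw [ez] at hi
    calc w ^ i = g * (g⁻¹ * w ^ i * g) * g⁻¹ := by group
      _ = g * (g⁻¹ * w₁ * g) * g⁻¹ := by rw [hi]
      _ = w₁ := by group
  · calc x * (g⁻¹ * w * g) = g⁻¹ * (g * x * g⁻¹ * w) * g := by group
      _ = g⁻¹ * (w * (g * x * g⁻¹)) * g := by rw [h7]
      _ = _ := by group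
  · calc x * (g⁻¹ * w₁ * g) * x⁻¹ = g⁻¹ * (g * x * g⁻¹ * w₁ * (g * x * g⁻¹)⁻¹) * g := by group
      _ = g⁻¹ * (w₁ * w ^ j) * g := by rw [h8]
      _ = g⁻¹ * w₁ * g * (g⁻¹ * w ^ j * g) := by group
      _ = _ := by rw [ez]
  · calc g⁻¹ * q * g * (g⁻¹ * w₁ * g) = g⁻¹ * (q * w₁) * g := by group
      _ = g⁻¹ * (w₁ * q) * g := by rw [h9]
      _ = _ := by group
  · calc g⁻¹ * q * g * (g⁻¹ * w * g) * (g⁻¹ * q * g)⁻¹ = g⁻¹ * (q * w * q⁻¹) * g := by group
      _ = g⁻¹ * (w * w₁ ^ k) * g := by rw [h10]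
      _ = g⁻¹ * w * g * (g⁻¹ * w₁ ^ k * g) := by group
      _ = _ := by rw [ez]

/-- a unit of prime power order, with `t ^ 2 ≠ 1` -/
theorem exists_unit [hp : Fact p.Prime] (hp5 : 5 ≤ p) :
    ∃ (r n : ℕ) (t : (ZMod p)ˣ), r.Prime ∧ r ≠ p ∧ t ^ r ^ n = 1 ∧ t ^ 2 ≠ 1 := by
  obtain ⟨g, hg⟩ := IsCyclic.exists_ofOrder_eq_natCard (α := (ZMod p)ˣ)
  have hc : Nat.card (ZMod p)ˣ = p - 1 := by rw [Nat.card_eq_fintype_card, ZMod.card_units]
  rw [hc] at hg
  have key : ∀ d : ℕ, d ∣ p - 1 → 2 < d → (g ^ ((p - 1) / d)) ^ d = 1 ∧ (g ^ ((p - 1) / d)) ^ 2 ≠ 1 := by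
    intro d hd h2
    have h3 : orderOf (g ^ ((p - 1) / d)) = d := by
      have h5 : 0 < d := by omega
      have h4 : 0 < (p - 1) / d := Nat.div_pos (Nat.le_of_dvd (by omega) hd) h5
      rw [orderOf_pow_of_dvd h4.ne' (by rw [hg]; exact Nat.div_dvd_of_dvd hd), hg,
        Nat.div_div_self hd (by omega)]
    refine ⟨by have := pow_orderOf_eq_one (g ^ ((p - 1) / d)); rwa [h3] at this, fun h => ?_⟩
    have h6 := orderOf_dvd_of_pow_eq_one h
    rw [h3] at h6
    have := Nat.le_of_dvd (by norm_num) h6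
    omega
  by_cases h4 : 4 ∣ p - 1
  · obtain ⟨k1, k2⟩ := key 4 h4 (by norm_num)
    exact ⟨2, 2, _, Nat.prime_two, by omega, by simpa using k1, k2⟩
  · -- an odd prime divisor
    obtain ⟨r, hr, hr2, hrd⟩ : ∃ r : ℕ, r.Prime ∧ r ≠ 2 ∧ r ∣ p - 1 := by
      by_contra hcon
      push Not at hcon
      have h5 := Nat.eq_prime_pow_of_unique_prime_dvd (n := p - 1) (p := 2) (by omega) (by
        intro d hd hdd
        by_contra hne
        exact hcon d hd hne hdd)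
      rw [h5] at h4
      have h6 : (p - 1).primeFactorsList.length < 2 := by
        by_contra h7
        exact h4 (pow_dvd_pow 2 (not_lt.1 h7))
      have h7 : 2 ^ (p - 1).primeFactorsList.length ≤ 2 ^ 1 := Nat.pow_le_pow_right (by norm_num) (by omega)
      omega
    have h2 := hr.two_le
    obtain ⟨k1, k2⟩ := key r hrd (by omega)
    refine ⟨r, 1, _, hr, ?_, by simpa using k1, k2⟩
    intro h3
    have := Nat.le_of_dvd (by omega) hrd
    omega

section

variable [hp : Fact p.Prime] {a b : K}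

/-- every matrix is realised -/
theorem exists_act (ha : orderOf a = p) (hb : orderOf b = p) (hab : a * b = b * a) {u v : K} {m n : ℤ}
    (hm : ¬ (p : ℤ) ∣ m) (hn : ¬ (p : ℤ) ∣ n) (hua : u * a = a * u)
    (hub : u * b * u⁻¹ = b * a ^ m) (hvb : v * b = b * v) (hva : v * a * v⁻¹ = a * b ^ n)
    (A : SpecialLinearGroup (Fin 2) (ZMod p)) : ∃ h : K, Act a b h A := by
  have hap : a ^ p = 1 := ha ▸ pow_orderOf_eq_one a
  have hbp : b ^ p = 1 := hb ▸ pow_orderOf_eq_one b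
  let SL := SpecialLinearGroup (Fin 2) (ZMod p)
  let U : SL := up (m : ZMod p)
  let V : SL := lo (n : ZMod p)
  have hU : Act a b u U := by
    constructor
    · show u * a * u⁻¹ = pz a (1 : ZMod p) * pz b (0 : ZMod p)
      rw [hua, pz_one, pz_zero]; group
    · show u * b * u⁻¹ = pz a (m : ZMod p) * pz b (1 : ZMod p)
      rw [hub, pz_one, pz_intCast hap]
      exact ((show Commute a b from hab).zpow_left m).eq.symm
  have hV : Act a b v V := by
    constructor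
    · show v * a * v⁻¹ = pz a (1 : ZMod p) * pz b (n : ZMod p)
      rw [hva, pz_one, pz_intCast hbp]
    · show v * b * v⁻¹ = pz a (0 : ZMod p) * pz b (1 : ZMod p)
      rw [hvb, pz_one, pz_zero]; group
  let R : Subgroup SL :=
    { carrier := {A | ∃ h : K, Act a b h A}
      one_mem' := ⟨1, act_one⟩
      mul_mem' := fun {A B} hA hB => by
        obtain ⟨h, hh⟩ := hA
        obtain ⟨k, hk⟩ := hB
        exact ⟨h * k, hh.mul hap hbp hab hk⟩
      inv_mem' := fun {A} hA => by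
        obtain ⟨h, hh⟩ := hA
        exact ⟨h⁻¹, hh.inv hap hbp hab⟩ }
  have hm0 : (m : ZMod p) ≠ 0 := by rwa [Ne, ZMod.intCast_zmod_eq_zero_iff_dvd]
  have hn0 : (n : ZMod p) ≠ 0 := by rwa [Ne, ZMod.intCast_zmod_eq_zero_iff_dvd]
  have hUm : U ∈ R := ⟨u, hU⟩
  have hVm : V ∈ R := ⟨v, hV⟩
  refine (mem_of_up_lo R ?_ ?_ A : A ∈ R)
  · intro c
    have h2 : ∀ k : ℕ, U ^ k = up ((k : ZMod p) * m) := by
      intro k
      induction k with
      | zero => rw [pow_zero, Nat.cast_zero, zero_mul, up_zero]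
      | succ k ih => rw [pow_succ, ih, Nat.cast_succ, add_mul, one_mul, up_add]
    have h3 := h2 (c * (m : ZMod p)⁻¹).val
    rw [ZMod.natCast_zmod_val, inv_mul_cancel_right₀ hm0] at h3
    rw [← h3]
    exact pow_mem hUm _
  · intro c
    have h2 : ∀ k : ℕ, V ^ k = lo ((k : ZMod p) * n) := by
      intro k
      induction k with
      | zero =>
        rw [pow_zero, Nat.cast_zero, zero_mul]
        exact lo_zero'.symm
      | succ k ih =>
        rw [pow_succ, ih, Nat.cast_succ, add_mul, one_mul]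
        exact (lo_add' _ _).symm
    have h3 := h2 (c * (n : ZMod p)⁻¹).val
    rw [ZMod.natCast_zmod_val, inv_mul_cancel_right₀ hn0] at h3
    rw [← h3]
    exact pow_mem hVm _

theorem Act.pow {h : K} {M : SpecialLinearGroup (Fin 2) (ZMod p)} (ha : a ^ p = 1) (hb : b ^ p = 1)
    (hab : a * b = b * a) (H : Act a b h M) (n : ℕ) : Act a b (h ^ n) (M ^ n) := by
  induction n with
  | zero => rw [pow_zero, pow_zero]; exact act_one
  | succ n ih => rw [pow_succ, pow_succ]; exact ih.mul ha hb hab H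

end

/-- `⟨x, y⟩` is solvable if `y` normalises `⟨w⟩` and `x ∈ Rad C(w)` -/
theorem isSolvable_of_rad [Finite K] {x y w : K} (hx : x ∈ radIn (centralizer ({w} : Set K)))
    (hy : y * w * y⁻¹ ∈ zpowers w) : Group.IsSolvable ↥(closure ({x, y} : Set K)) := by
  set C := centralizer ({w} : Set K) with hC
  have h1 : C.map (MulAut.conj y).toMonoidHom = C := by
    -- `C ≤ y C y⁻¹`
    have h2 : C ≤ C.map (MulAut.conj y).toMonoidHom := by
      intro c hc
      refine ⟨y⁻¹ * c * y, ?_, ?_⟩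
      · rw [SetLike.mem_coe, mem_centralizer_singleton_iff] at *
        obtain ⟨k, hk⟩ := mem_zpowers_iff.1 hy
        have h3 : Commute c (y * w * y⁻¹) := by
          rw [← hk]
          exact (show Commute c w from hc).zpow_right k
        calc y⁻¹ * c * y * w = y⁻¹ * (c * (y * w * y⁻¹)) * y := by group
          _ = y⁻¹ * (y * w * y⁻¹ * c) * y := by rw [h3.eq]
          _ = w * (y⁻¹ * c * y) := by group
      · change y * (y⁻¹ * c * y) * y⁻¹ = c
        group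
    exact (Subgroup.eq_of_le_of_card_ge h2 (le_of_eq (Subgroup.card_map_of_injective
      (MulAut.conj y).injective))).symm
  have h2 : (radIn C).map (MulAut.conj y).toMonoidHom = radIn C := by
    rw [← radIn_conj, h1]
  rw [Set.pair_comm]
  refine isSolvable_pair (A := radIn C) (radIn_solvable C) ?_ hx
  intro g hg
  rw [← h2]
  exact ⟨g, hg, rfl⟩

theorem conj_matrix {F : Type*} [Field F] (t : Fˣ) :
    (lo (-1) * dg t * (lo (-1))⁻¹ : SpecialLinearGroup (Fin 2) F) 1 0 = ((t⁻¹ : Fˣ) : F) - (t : F) := by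
  rw [mul10, mul10, mul11, inv00, inv10]
  simp [lo, dg]
  ring

theorem dg_ten {F : Type*} [Field F] (t : Fˣ) : (dg t : SpecialLinearGroup (Fin 2) F) 1 0 = 0 := by
  simp [dg]

theorem dg_pow {F : Type*} [Field F] (t : Fˣ) (m : ℕ) : (dg t) ^ m = (dg (t ^ m) : SpecialLinearGroup (Fin 2) F) :=
  (map_pow (dgHom F) t m).symm

/-- a transvection and an element which moves its centre -/
theorem not_solvable_of_act [hp : Fact p.Prime] (hp5 : 5 ≤ p) {w w₁ x z : K} {j : ℤ} (hw : orderOf w = p)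
    (hw₁ : orderOf w₁ = p) (hww : w * w₁ = w₁ * w) (hne : w₁ ∉ zpowers w) (hj : ¬ (p : ℤ) ∣ j)
    (hxw : x * w = w * x) (hxw₁ : x * w₁ * x⁻¹ = w₁ * w ^ j) {M : SpecialLinearGroup (Fin 2) (ZMod p)}
    (hzM : Act w w₁ z M) (hM10 : M 1 0 ≠ 0) : ¬ Group.IsSolvable ↥(closure ({x, z} : Set K)) := by
  intro hzs
  have hwp : w ^ p = 1 := hw ▸ pow_orderOf_eq_one w
  have hw₁p : w₁ ^ p = 1 := hw₁ ▸ pow_orderOf_eq_one w₁
  have cww : Commute w w₁ := hww
  obtain ⟨v, hv⟩ : ∃ v, v = z * w * z⁻¹ := ⟨_, rfl⟩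
  obtain ⟨e, he⟩ : ∃ e, e = M 1 0 := ⟨_, rfl⟩
  have hvM : v = pz w (M 0 0) * pz w₁ e := by rw [hv, he]; exact hzM.1
  have hzb : z⁻¹ * w * z = pz w (M 1 1) * pz w₁ (-e) := by
    have h1 := (hzM.inv hwp hw₁p hww).1
    rw [inv00, inv10, inv_inv, ← he] at h1
    exact h1
  rw [← he] at hM10
  have hval : ∀ e : ZMod p, e ≠ 0 → ¬ (p : ℤ) ∣ (e.val : ℤ) := by
    intro e he h1
    apply he
    have h2 : p ∣ e.val := by exact_mod_cast h1
    exact (ZMod.val_eq_zero e).1 (Nat.eq_zero_of_dvd_of_lt h2 (ZMod.val_lt e))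
  have hmul : ∀ {i i' : ℤ}, ¬ (p : ℤ) ∣ i → ¬ (p : ℤ) ∣ i' → ¬ (p : ℤ) ∣ i * i' := by
    intro i i' h1 h2 h3
    rcases (Nat.prime_iff_prime_int.1 hp.out).dvd_or_dvd h3 with h | h
    · exact h1 h
    · exact h2 h
  -- the action of `x` on `⟨w, w₁⟩`
  have hxact : ∀ (s e : ZMod p), x * (pz w s * pz w₁ e) * x⁻¹ = pz w s * pz w₁ e * w ^ (j * (e.val : ℤ)) := by
    intro s e
    have h1 : x * (pz w s * pz w₁ e) * x⁻¹ = (x * w * x⁻¹) ^ s.val * (x * w₁ * x⁻¹) ^ e.val := by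
      rw [conj_pow, conj_pow]
      unfold pz
      group
    have h2 : x * w * x⁻¹ = w := by rw [hxw, mul_inv_cancel_right]
    have c2 : Commute w₁ (w ^ j) := (cww.zpow_left j).symm
    rw [h1, h2, hxw₁, c2.mul_pow, mul_assoc, ← zpow_natCast (w ^ j), ← zpow_mul]
    rfl
  have o1 : orderOf v = p := by rw [hv, ← MulAut.conj_apply, MulEquiv.orderOf_eq, hw]
  have o2 : w * v = v * w := by
    rw [hvM]
    exact (((Commute.refl w).pow_right _).mul_right (cww.pow_right _)).eq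
  have o3 : v ∉ zpowers w := by
    rw [hvM]
    intro h1
    apply hne
    have h2 : w₁ ^ (e.val : ℤ) ∈ zpowers w := by
      have h3 := mul_mem (inv_mem (pow_mem (mem_zpowers w) (M 0 0).val)) h1
      rw [zpow_natCast]
      have h4 : (w ^ (M 0 0).val)⁻¹ * (pz w (M 0 0) * pz w₁ e) = w₁ ^ e.val := by
        unfold pz
        rw [inv_mul_cancel_left]
      rwa [h4] at h3
    exact mem_of_zpow hp.out hw₁ (hval _ hM10) h2
  have o4 : x * v * x⁻¹ = v * w ^ (j * (e.val : ℤ)) := by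
    rw [hvM]
    exact hxact _ _
  have o5 : z * x * z⁻¹ * v = v * (z * x * z⁻¹) := by
    rw [hv]
    have e1 : z * x * z⁻¹ * (z * w * z⁻¹) = z * (x * w) * z⁻¹ := by group
    have e2 : z * w * z⁻¹ * (z * x * z⁻¹) = z * (w * x) * z⁻¹ := by group
    rw [e1, e2, hxw]
  have o6 : z * x * z⁻¹ * w * (z * x * z⁻¹)⁻¹ = w * v ^ (j * ((-e).val : ℤ)) := by
    have e1 : z * x * z⁻¹ * w * (z * x * z⁻¹)⁻¹ = z * (x * (z⁻¹ * w * z) * x⁻¹) * z⁻¹ := by group
    rw [e1, hzb, hxact, ← hzb, hv, conj_zpow]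
    group
  refine not_solvable_closure (p := p) hp5 hw o1 o2 o3 (hmul hj (hval _ hM10)) (hmul hj (hval _ (neg_ne_zero.2 hM10)))
    hxw o4 o5 o6 ?_
  -- both lie in `⟨x, z⟩`
  refine isSolvable_of_le ?_ hzs
  have hx' : x ∈ closure ({x, z} : Set K) := subset_closure (by simp)
  have hz' : z ∈ closure ({x, z} : Set K) := subset_closure (by simp)
  rw [closure_le]
  intro a ha
  rcases ha with ha | ha
  · rw [ha]; exact hx'
  · rw [Set.mem_singleton_iff.1 ha]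
    exact mul_mem (mul_mem hz' hx') (inv_mem hz')

theorem act_dg_pow [hp : Fact p.Prime] {a b h : K} {t : (ZMod p)ˣ} {m : ℕ} (ha : a ^ p = 1) (hb : b ^ p = 1)
    (hab : a * b = b * a) (hm : t ^ m = t) (hh : Act (p := p) a b h (dg t)) : Act (p := p) a b (h ^ m) (dg t) := by
  have h2 : (dg t : SpecialLinearGroup (Fin 2) (ZMod p)) ^ m = dg t := by
    rw [dg_pow, hm]
  rw [← h2]
  exact Act.pow ha hb hab hh m

/-- **`Tv` from `YE`** -/
theorem Tv.of_ye [Finite K] [hp : Fact p.Prime] (hp5 : 5 ≤ p) (hZ : center K = ⊥) {x : K} (hR : RE x) (hY : YE p x) :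
    Tv p x := by
  intro w w₁ q j k hw hw₁ hww hne hj hk hxw hxw₁ hqw₁ hqw
  have hwp : w ^ p = 1 := hw ▸ pow_orderOf_eq_one w
  have hw₁p : w₁ ^ p = 1 := hw₁ ▸ pow_orderOf_eq_one w₁
  have hC : centralizer ({w} : Set K) ≠ ⊤ := by
    intro h1
    have h2 : w ∈ center K := by
      rw [mem_center_iff]
      intro g
      exact mem_centralizer_singleton_iff.1 (h1 ▸ mem_top g)
    rw [hZ, mem_bot] at h2
    rw [h2, orderOf_one] at hw
    exact hp.out.one_lt.ne hw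
  have hxr : x ∈ radIn (centralizer ({w} : Set K)) := hR _ hC (mem_centralizer_singleton_iff.2 hxw)
  obtain ⟨r, n, t, hr, hrp, ht, ht2⟩ := exists_unit (p := p) hp5
  obtain ⟨h, hh⟩ := exists_act hw hw₁ hww hj hk hxw hxw₁ hqw₁ hqw (dg t)
  obtain ⟨m, hm, l, hl⟩ := exists_part hr h n
  have htm : t ^ m = t := by
    have h4 : m ≡ 1 [MOD orderOf t] := hm.of_dvd (orderOf_dvd_of_pow_eq_one ht)
    have h5 := pow_eq_pow_iff_modEq.2 h4
    rw [h5, pow_one]
  have hyt : Act (p := p) w w₁ (h ^ m) (dg t) := act_dg_pow hwp hw₁p hww htm hh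
  have hys : Group.IsSolvable ↥(closure ({x, h ^ m} : Set K)) := by
    refine isSolvable_of_rad hxr ?_
    rw [hyt.1, dg_ten, pz_zero, mul_one]
    exact pow_mem (mem_zpowers w) _
  obtain ⟨c, hc⟩ := exists_act hw hw₁ hww hj hk hxw hxw₁ hqw₁ hqw (lo (-1))
  have hzs := hY r hr hrp (h ^ m) ⟨l, hl⟩ hys c
  have hzM : Act (p := p) w w₁ (c * h ^ m * c⁻¹) (lo (-1) * dg t * (lo (-1))⁻¹) :=
    (hc.mul hwp hw₁p hww hyt).mul hwp hw₁p hww (hc.inv hwp hw₁p hww)
  refine not_solvable_of_act hp5 hw hw₁ hww hne hj hxw hxw₁ hzM ?_ hzs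
  rw [conj_matrix, sub_ne_zero]
  intro h1
  apply ht2
  have h2 : t⁻¹ = t := Units.ext h1
  rw [pow_two]
  nth_rewrite 1 [← h2]
  exact inv_mul_cancel t

/-- from `RE` to `RC` -/
theorem RC.of_re [Finite K] [IsSimpleGroup K] {x : K} (hR : RE x) :
    RC (MulAut.conj x) := by
  intro M hM hMx m hm
  have hMx' : ∀ g ∈ M, x * g * x⁻¹ ∈ M := hMx
  set H : Subgroup K := M ⊔ zpowers x with hH
  have hxH : x ∈ H := mem_sup_right (mem_zpowers x)
  have hHn : H ≤ normalizer (M : Set K) := by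
    refine sup_le le_normalizer ?_
    rw [zpowers_le]
    exact mem_norm hMx'
  by_cases hHt : H = ⊤
  · have hMn : M.Normal := by
      rw [hHt] at hHn
      exact Subgroup.normalizer_eq_top_iff.1 (top_le_iff.1 hHn)
    rcases hMn.eq_bot_or_eq_top with h1 | h1
    · rw [h1, mem_bot] at hm
      subst hm
      rw [map_one, inv_one, mul_one]
      exact one_mem _
    · exact absurd h1 hM
  have hxr := hR H hHt hxH
  have hMH : M ≤ H := le_sup_left
  have h1 : m⁻¹ * x * m * x⁻¹ ∈ radIn H := by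
    have h2 := radIn_conj_mem (inv_mem (hMH hm)) hxr
    rw [inv_inv] at h2
    exact mul_mem h2 (inv_mem hxr)
  have h2 : m⁻¹ * x * m * x⁻¹ ∈ M := by
    have h3 := mul_mem (inv_mem hm) (hMx' _ hm)
    have e : m⁻¹ * x * m * x⁻¹ = m⁻¹ * (x * m * x⁻¹) := by group
    rwa [e]
  have h3 := radIn_inf_le hMH ⟨h1, h2⟩
  have e : m⁻¹ * (MulAut.conj x) m = m⁻¹ * x * m * x⁻¹ := by rw [MulAut.conj_apply]; group
  rwa [e]

/-- no `RC` elements with `Tv` -/
def NoT (p : ℕ) (K : Type*) [Group K] : Prop :=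
  ∀ x : K, orderOf x = p → RC (MulAut.conj x) → Tv p x → False

theorem NoE.of_noT [Finite K] [IsSimpleGroup K] (hna : ¬ IsMulCommutative K) [Fact p.Prime] (hp5 : 5 ≤ p)
    (h : NoT p K) : NoE p K := fun x hx hR hY =>
  h x hx (RC.of_re hR) (Tv.of_ye hp5 (center_eq_bot hna) hR hY)

section Centre

variable {w w₁ g : K} {Q : Subgroup K}

/-- **elements moving `w₁`** -/
theorem false_of_move_tv (D : Centre p w w₁ g Q) (hp : p.Prime) {x : K} {j : ℤ}
    (hj : ¬ (p : ℤ) ∣ j) (hxw : x * w = w * x) (hx : x * w₁ * x⁻¹ = w₁ * w ^ j) (h : Tv p x) : False := by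
  obtain ⟨q, k, hk, h1, h2⟩ := D.exists_q hp
  exact h w w₁ q j k D.ho D.ho₁ D.ww D.hnot hj hk hxw hx h1 h2

/-- **elements of `Q`** -/
theorem false_of_mem_tv (D : Centre p w w₁ g Q) (hp : p.Prime) {x : K}
    (hx : x ∈ Q) (ho : orderOf x = p) (h : Tv p x) : False := by
  -- it suffices to treat the elements outside of `⟨w⟩`
  have key : ∀ x ∈ Q, x ∉ zpowers w → Tv p x → False := by
    intro x hx hxw h
    obtain ⟨c, hcw, hcQ, hne⟩ : ∃ c : K, c * w = w * c ∧ (∀ a ∈ Q, c * a * c⁻¹ ∈ Q) ∧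
        x * (c * w₁ * c⁻¹) ≠ c * w₁ * c⁻¹ * x := by
      by_contra h1
      push Not at h1
      exact hxw (D.hirr x hx h1)
    have hne' : (c⁻¹ * x * c) * w₁ ≠ w₁ * (c⁻¹ * x * c) := by
      intro h1
      apply hne
      calc x * (c * w₁ * c⁻¹) = c * ((c⁻¹ * x * c) * w₁) * c⁻¹ := by group
        _ = c * (w₁ * (c⁻¹ * x * c)) * c⁻¹ := by rw [h1]
        _ = c * w₁ * c⁻¹ * x := by group
    obtain ⟨j, hj⟩ := mem_zpowers_iff.1 (D.hcomm x hx _ (hcQ _ D.hmem))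
    have cw : Commute c w := hcw
    have e0 : c⁻¹ * w ^ j * c = w ^ j := by
      rw [mul_assoc, ← (cw.zpow_right j).eq, inv_mul_cancel_left]
    have e1 : (c⁻¹ * x * c) * w₁ * (c⁻¹ * x * c)⁻¹ = w₁ * w ^ j := by
      rw [← ((show Commute w w₁ from D.ww).zpow_left j).eq]
      calc (c⁻¹ * x * c) * w₁ * (c⁻¹ * x * c)⁻¹ = c⁻¹ * (x * (c * w₁ * c⁻¹) * x⁻¹ * (c * w₁ * c⁻¹)⁻¹) * c * w₁ := by group
        _ = c⁻¹ * w ^ j * c * w₁ := by rw [hj]
        _ = w ^ j * w₁ := by rw [e0]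
    have hpj : ¬ (p : ℤ) ∣ j := by
      intro h1
      rw [zpow_eq_one_of_dvd D.ho h1, mul_one, mul_inv_eq_iff_eq_mul] at e1
      exact hne' e1
    have e2 : (c⁻¹ * x * c) * w = w * (c⁻¹ * x * c) := by
      have h1 : x * w = w * x := D.hc x hx
      have cxw : Commute (c⁻¹ * x * c) w := (cw.inv_left.mul_left h1).mul_left cw
      exact cxw
    have h2 := h.conj c⁻¹
    rw [inv_inv] at h2
    exact false_of_move_tv D hp hpj e2 e1 h2
  by_cases hxw : x ∈ zpowers w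
  · obtain ⟨i, rfl⟩ := mem_zpowers_iff.1 hxw
    have hi : ¬ (p : ℤ) ∣ i := by
      intro h1
      rw [zpow_eq_one_of_dvd D.ho h1, orderOf_one] at ho
      exact hp.one_lt.ne ho
    have e1 : g * w ^ i * g⁻¹ = w₁ ^ i := by rw [← D.hg, conj_zpow]
    refine key (g * w ^ i * g⁻¹) (by rw [e1]; exact zpow_mem D.hmem i) ?_ (h.conj g)
    rw [e1]
    exact fun h1 => D.hnot (mem_of_zpow hp D.ho₁ hi h1)
  · exact key x hx hxw h

/-- **`Q` a Sylow subgroup** -/
theorem noT_of_sylow [Finite K] (D : Centre p w w₁ g Q) (hp : p.Prime)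
    (hQ : IsPGroup p ↥Q) (hcard : ¬ p * Nat.card ↥Q ∣ Nat.card K) : NoT p K := by
  intro x hx _ h
  have : Fact p.Prime := ⟨hp⟩
  have hi : ¬ p ∣ Q.index := by
    intro h1
    apply hcard
    rw [← Q.card_mul_index, mul_comm p]
    exact mul_dvd_mul_left _ h1
  let P : Sylow p K := hQ.toSylow hi
  have hx' : IsPGroup p ↥(zpowers x) := IsPGroup.of_card (n := 1) (by rw [Nat.card_zpowers, hx, pow_one])
  obtain ⟨P', hP'⟩ := hx'.exists_le_sylow
  obtain ⟨k, hk⟩ := MulAction.exists_smul_eq K P' P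
  have h1 : k * x * k⁻¹ ∈ (P : Subgroup K) := by
    rw [← hk, Sylow.coe_subgroup_smul]
    exact smul_mem_pointwise_smul x (MulAut.conj k) _ (hP' (mem_zpowers x))
  exact false_of_mem_tv D hp (x := k * x * k⁻¹) h1 (by rw [← MulAut.conj_apply, MulEquiv.orderOf_eq, hx]) (h.conj k)

end Centre

end Cfsg.Agent.H301.SY
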