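import Mathlib
import Cfsg.Agent.H301.SY.Spor
import Cfsg.Agent.H509.CycBlock
import Cfsg.Agent.H330.Gow

/-!
# S3846: `Blk` and `Gw` (helper301)
-/

set_option autoImplicit false
set_option linter.unusedSectionVars false

namespace Cfsg.Agent.H301.SY

open Cfsg Subgroup

theorem relIndex_dvd {K : Type*} [Group K] [Finite K] {p : ℕ} [hp : Fact p.Prime] {x : K} (hx : orderOf x = p) :
    (centralizer ({x} : Set K)).relIndex (normalizer ((zpowers x : Subgroup K) : Set K)) ∣ p - 1 := by
  have e : centralizer ({x} : Set K) = centralizer ((zpowers x : Subgroup K) : Set K) := by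
    ext z
    rw [mem_centralizer_iff, mem_centralizer_iff]
    constructor
    · rintro h _ ⟨k, rfl⟩
      have h1 : Commute x z := h x rfl
      exact h1.zpow_left k
    · intro h y hy
      rw [Set.mem_singleton_iff.1 hy]
      exact h x (mem_zpowers x)
  rw [e, relIndex, ← normalizerMonoidHom_ker, index_ker]
  have h1 : Nat.card (MulAut ↥(zpowers x)) = p - 1 := by
    rw [IsCyclic.card_mulAut, Nat.card_zpowers, hx, Nat.totient_prime hp.out]
  rw [← h1]
  exact Subgroup.card_subgroup_dvd_card _

/-- the block lemma -/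
theorem blk {K : Type*} [Group K] [Finite K] [IsSimpleGroup K] (hna : ¬ IsMulCommutative K) {p : ℕ} [Fact p.Prime] :
    Blk p K := by
  intro hcyc x y hx hy h
  obtain ⟨P⟩ : Nonempty (Sylow p K) := inferInstance
  have h1 := Cfsg.Agent.H509.CycBlock.order_dvd_of_solvable_pairs hna P (hcyc P) hx hy h
  obtain ⟨m, hm⟩ := relIndex_dvd (K := K) hx
  rw [hm, pow_mul, h1, one_pow]

/-- Gow's theorem -/
theorem gw {K : Type*} [Group K] [Finite K] {r : ℕ} (hr : r.Prime) (h : IsLieTypeChar r K) : Gw r K :=
  fun _ _ _ hx hy hz hzr => Cfsg.Agent.H330.Gow.gow hr h hx hy hz hzr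

end Cfsg.Agent.H301.SY
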