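import Mathlib
import Cfsg.Agent.H459.Reduce
import Cfsg.Agent.H301.SY.Rep

/-!
# S3846: the reduction, an element which moves a component (helper301)

`G` finite without solvable radical, `L` a component, `x` of prime order `p ≥ 5` not normalising `L`: the conjugates
`x ^ i L x ^ (-i)`, `i : ZMod p`, commute pairwise and `Psi` is the homomorphism `L ^ p → G`.
-/

set_option autoImplicit false
set_option linter.unusedSectionVars false

namespace Cfsg.Agent.H301.SY.Moved

open Cfsg Subgroup Cfsg.Agent.H459.Rad Cfsg.Agent.H459.Reduce Cfsg.Agent.SignalizersComponents.ComponentExists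
open Cfsg.Agent.SignalizersComponents.Components Cfsg.Agent.H301.SY
open scoped commutatorElement

universe u

theorem pi_hom_ext {ι : Type*} [Fintype ι] [DecidableEq ι] {L G : Type*} [Group L] [Group G] {F F' : (ι → L) →* G}
    (h : ∀ i l, F (Pi.mulSingle i l) = F' (Pi.mulSingle i l)) : F = F' := by
  apply (MonoidHom.noncommPiCoprodEquiv (M := G) (N := fun _ : ι => L)).symm.injective
  apply Subtype.ext
  funext i
  ext l
  exact h i l

variable {G : Type u} [Group G] [Finite G] {p : ℕ} [hp : Fact p.Prime]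

/-- the data: a component moved by `x` -/
structure Data (p : ℕ) (x : G) (L : Subgroup G) : Prop where
  rad : solvableRadical G = ⊥
  pow : x ^ p = 1
  comp : IsComponent L
  mov : x ∉ normalizer (L : Set G)

variable {x : G} {L : Subgroup G} (D : Data p x L)

include D

theorem Data.not_mem (n : ℕ) (hn : ¬ p ∣ n) : x ^ n ∉ normalizer (L : Set G) := by
  intro h
  apply D.mov
  have h1 : Nat.Coprime n p := ((Nat.Prime.coprime_iff_not_dvd hp.out).2 hn).symm
  obtain ⟨m, -, hm⟩ := Nat.exists_mul_mod_eq_one_of_coprime h1 hp.out.one_lt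
  have h2 : x = (x ^ n) ^ m := by
    rw [← pow_mul, ← Nat.div_add_mod (n * m) p, hm, pow_add, pow_mul, D.pow, one_pow, one_mul, pow_one]
  rw [h2]
  exact pow_mem h m

/-- `l ↦ x ^ i l x ^ (-i)` -/
def phi (_D : Data p x L) (i : ZMod p) : L →* G := (MulAut.conj (x ^ i.val)).toMonoidHom.comp L.subtype

theorem phi_apply (i : ZMod p) (l : L) : phi D i l = x ^ i.val * l * (x ^ i.val)⁻¹ := rfl

theorem phi_comm : Pairwise fun i j : ZMod p => ∀ (a b : L), Commute (phi D i a) (phi D j b) := by
  have key : ∀ i j : ZMod p, i.val < j.val → ∀ a b : L, Commute (phi D i a) (phi D j b) := by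
    intro i j hij a b
    have h1 : cj (x ^ (j.val - i.val)) L ≠ L := by
      intro h
      refine D.not_mem (j.val - i.val) ?_ (mem_normalizer_of_cj h)
      intro h2
      have h3 := Nat.le_of_dvd (by omega) h2
      have h4 := ZMod.val_lt j
      omega
    have h2 : (x ^ (j.val - i.val) * b * (x ^ (j.val - i.val))⁻¹) * (a : G) =
        a * (x ^ (j.val - i.val) * b * (x ^ (j.val - i.val))⁻¹) :=
      comm_of_cj_ne D.comp h1 (conj_mem_cj b.2) a.2
    have h3 : phi D j b = x ^ i.val * (x ^ (j.val - i.val) * b * (x ^ (j.val - i.val))⁻¹) * (x ^ i.val)⁻¹ := by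
      rw [phi_apply]
      have h4 : x ^ j.val = x ^ i.val * x ^ (j.val - i.val) := by
        rw [← pow_add]; congr 1; omega
      rw [h4]; group
    show phi D i a * phi D j b = phi D j b * phi D i a
    rw [h3, phi_apply]
    have e1 : x ^ i.val * (a : G) * (x ^ i.val)⁻¹ * (x ^ i.val * (x ^ (j.val - i.val) * b * (x ^ (j.val - i.val))⁻¹) *
        (x ^ i.val)⁻¹) = x ^ i.val * (a * (x ^ (j.val - i.val) * b * (x ^ (j.val - i.val))⁻¹)) * (x ^ i.val)⁻¹ := by
      group
    rw [e1, ← h2]
    group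
  intro i j hij a b
  rcases lt_trichotomy i.val j.val with h | h | h
  · exact key i j h a b
  · exact absurd (ZMod.val_injective p h) hij
  · exact (key j i h b a).symm

/-- the homomorphism `L ^ p → G` -/
noncomputable def Psi : (ZMod p → L) →* G :=
  MonoidHom.noncommPiCoprod (phi D) (phi_comm D)

theorem Psi_single (i : ZMod p) (l : L) : Psi D (Pi.mulSingle i l) = x ^ i.val * l * (x ^ i.val)⁻¹ :=
  MonoidHom.noncommPiCoprod_mulSingle _ _ _

/-- `x` permutes the factors -/
theorem Psi_conj (a : ZMod p → L) : x * Psi D a * x⁻¹ = Psi D fun j => a (j - 1) := by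
  let e : (ZMod p → L) →* (ZMod p → L) :=
    { toFun := fun a j => a (j - 1)
      map_one' := rfl
      map_mul' := fun a b => rfl }
  have h : (MulAut.conj x).toMonoidHom.comp (Psi D) = (Psi D).comp e := by
    apply pi_hom_ext
    intro i l
    have h1 : e (Pi.mulSingle i l) = Pi.mulSingle (i + 1) l := by
      funext j
      show (Pi.mulSingle i l : ZMod p → L) (j - 1) = (Pi.mulSingle (i + 1) l : ZMod p → L) j
      by_cases hj : j = i + 1
      · subst hj
        rw [Pi.mulSingle_eq_same, add_sub_cancel_right, Pi.mulSingle_eq_same]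
      · rw [Pi.mulSingle_eq_of_ne hj, Pi.mulSingle_eq_of_ne]
        intro h2
        exact hj (by rw [← h2]; ring)
    show x * Psi D (Pi.mulSingle i l) * x⁻¹ = Psi D (e (Pi.mulSingle i l))
    rw [h1, Psi_single, Psi_single]
    have h2 : x ^ (i + 1).val = x ^ (i.val + 1) := by
      rw [ZMod.val_add]
      have h3 : (1 : ZMod p).val = 1 := by
        have : Fact (1 < p) := ⟨hp.out.one_lt⟩
        exact ZMod.val_one p
      rw [h3]
      conv_rhs => rw [← Nat.div_add_mod (i.val + 1) p]
      rw [pow_add, pow_mul, D.pow, one_pow, one_mul]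
    rw [h2, pow_succ']
    group
  exact DFunLike.congr_fun h a

/-- the action of `x ^ (-i) Psi(a) x ^ i` on `L` is conjugation by `a i` -/
theorem Psi_act (a : ZMod p → L) (i : ZMod p) (l : L) :
    ((x ^ i.val)⁻¹ * Psi D a * x ^ i.val) * l * ((x ^ i.val)⁻¹ * Psi D a * x ^ i.val)⁻¹ = (a i * l * (a i)⁻¹ : L) := by
  -- `Psi(a) φ_i(l) Psi(a)⁻¹ = φ_i(a_i l a_i⁻¹)`
  have h1 : a * Pi.mulSingle i l * a⁻¹ = Pi.mulSingle i (a i * l * (a i)⁻¹) := by
    funext j
    by_cases hj : j = i
    · subst hj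
      simp
    · simp [Pi.mulSingle_eq_of_ne hj]
  have h2 := congrArg (Psi D) h1
  rw [map_mul, map_mul, map_inv, Psi_single, Psi_single] at h2
  have h3 : ((a i * l * (a i)⁻¹ : L) : G) = (x ^ i.val)⁻¹ * (x ^ i.val * ((a i * l * (a i)⁻¹ : L) : G) * (x ^ i.val)⁻¹) *
      x ^ i.val := by group
  rw [h3, ← h2]
  group

/-- it lies in the normaliser of `L` -/
theorem Psi_norm (a : ZMod p → L) (i : ZMod p) :
    (x ^ i.val)⁻¹ * Psi D a * x ^ i.val ∈ normalizer (L : Set G) := by
  refine mem_norm fun l hl => ?_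
  rw [Psi_act D a i ⟨l, hl⟩]
  exact SetLike.coe_mem _

theorem center_eq : center L = ⊥ := component_center D.rad D.comp

/-- a solvable subgroup containing `x` and `Psi a` : the subgroup generated by the `a i` is solvable -/
theorem solvable_of_mem {S : Subgroup G} (hS : Group.IsSolvable S) {A : Set L}
    (h : ∀ l ∈ A, ∃ (i : ZMod p) (a : ZMod p → L), a i = l ∧ (x ^ i.val)⁻¹ * Psi D a * x ^ i.val ∈ S) :
    Group.IsSolvable ↥(closure A) := by
  set N := normalizer (L : Set G) with hN
  set ρ : N →* MulAut L := L.normalizerMonoidHom with hρ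
  have hinj := conj_injective (center_eq D)
  have h3 : Group.IsSolvable ↥((S.subgroupOf N).map ρ) := by
    refine isSolvable_map ?_ _
    let f : ↥(S.subgroupOf N) →* ↥S := (N.subtype.comp (S.subgroupOf N).subtype).codRestrict S fun s => s.2
    refine Group.isSolvable_of_isSolvable_injective (f := f) ?_
    intro s t hst
    have h4 : ((s : N) : G) = ((t : N) : G) := congrArg (fun z : ↥S => (z : G)) hst
    exact Subtype.ext (Subtype.ext h4)
  have h4 : (closure A).map (MulAut.conj : L →* MulAut L) ≤ (S.subgroupOf N).map ρ := by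
    rw [MonoidHom.map_closure, closure_le]
    rintro _ ⟨l, hl, rfl⟩
    obtain ⟨i, a, hai, hm⟩ := h l hl
    refine ⟨⟨_, Psi_norm D a i⟩, hm, ?_⟩
    ext l'
    change ((x ^ i.val)⁻¹ * Psi D a * x ^ i.val) * l' * ((x ^ i.val)⁻¹ * Psi D a * x ^ i.val)⁻¹ = _
    rw [Psi_act D a i l', hai]
    rfl
  have h5 := isSolvable_of_le h4 h3
  exact Group.isSolvable_of_isSolvable_injective
    (f := ((closure A).equivMapOfInjective _ hinj).toMonoidHom) (MulEquiv.injective _)

/-- the subgroup `∏ x ^ i S x ^ (-i)` -/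
noncomputable def AS (S : Subgroup L) : Subgroup G := (Subgroup.pi Set.univ fun _ : ZMod p => S).map (Psi D)

theorem mem_AS {S : Subgroup L} {a : ZMod p → L} (h : ∀ i, a i ∈ S) : Psi D a ∈ AS D S :=
  ⟨a, (Subgroup.mem_pi _).2 fun i _ => h i, rfl⟩

theorem AS_conj {S : Subgroup L} : ∀ g ∈ AS D S, x * g * x⁻¹ ∈ AS D S := by
  rintro _ ⟨a, ha, rfl⟩
  rw [Psi_conj]
  exact mem_AS D fun i => ((Subgroup.mem_pi _).1 ha) _ (Set.mem_univ _)

/-- the commutator `[d, x]`, `d ∈ L` -/
theorem comm_eq (l : L) : (l : G) * (x * (l : G)⁻¹ * x⁻¹) =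
    Psi D (Pi.mulSingle 0 l * Pi.mulSingle 1 l⁻¹) := by
  have h1 : (1 : ZMod p).val = 1 := by
    have : Fact (1 < p) := ⟨hp.out.one_lt⟩
    exact ZMod.val_one p
  rw [map_mul, Psi_single, Psi_single, ZMod.val_zero, h1, pow_zero, pow_one]
  simp

/-- an `r`-element -/
theorem Psi_order {r : ℕ} (hr : r.Prime) {S : Subgroup L} (hS : IsPGroup r S) {a : ZMod p → L} (ha : ∀ i, a i ∈ S) :
    ∃ k : ℕ, orderOf (Psi D a) = r ^ k := by
  have hrF : Fact r.Prime := ⟨hr⟩
  obtain ⟨n, hn⟩ := hS.exists_card_eq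
  have h1 : a ^ r ^ n = 1 := by
    funext i
    have h2 : (⟨a i, ha i⟩ : S) ^ r ^ n = 1 := by rw [← hn]; exact pow_card_eq_one'
    exact congrArg Subtype.val h2
  have h2 : (Psi D a) ^ r ^ n = 1 := by rw [← map_pow, h1, map_one]
  obtain ⟨k, -, hk⟩ := (Nat.dvd_prime_pow hr).1 (orderOf_dvd_of_pow_eq_one h2)
  exact ⟨k, hk⟩

/-- **the moved case** : five `r`-elements of `L` generate a solvable subgroup -/
theorem five_solvable (hp5 : 5 ≤ p) (h : YE p x) {r : ℕ} (hr : r.Prime) (hrp : r ≠ p) (s : Fin 5 → L)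
    (hs : ∀ i, ∃ k : ℕ, orderOf (s i) = r ^ k) : Group.IsSolvable ↥(closure (Set.range s)) := by
  classical
  have hrF : Fact r.Prime := ⟨hr⟩
  -- conjugates in one Sylow subgroup
  obtain ⟨S⟩ : Nonempty (Sylow r L) := inferInstance
  have hconj : ∀ i, ∃ g : L, g * s i * g⁻¹ ∈ (S : Subgroup L) := by
    intro i
    obtain ⟨k, hk⟩ := hs i
    have h1 : IsPGroup r (zpowers (s i)) := IsPGroup.of_card (n := k) (by rw [Nat.card_zpowers, hk])
    obtain ⟨P, hP⟩ := h1.exists_le_sylow
    obtain ⟨g, hg⟩ := MulAction.exists_smul_eq L P S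
    refine ⟨g, ?_⟩
    rw [← hg, Sylow.coe_subgroup_smul]
    exact ⟨s i, hP (mem_zpowers _), rfl⟩
  choose g hg using hconj
  let s' : ZMod p → L := fun j => if h : j.val < 5 then s ⟨j.val, h⟩ else 1
  let g' : ZMod p → L := fun j => if h : j.val < 5 then g ⟨j.val, h⟩ else 1
  have hmem : ∀ j, g' j * s' j * (g' j)⁻¹ ∈ (S : Subgroup L) := by
    intro j
    by_cases hj : j.val < 5
    · have h1 : s' j = s ⟨j.val, hj⟩ := dif_pos hj
      have h2 : g' j = g ⟨j.val, hj⟩ := dif_pos hj
      rw [h1, h2]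
      exact hg _
    · have h1 : s' j = 1 := dif_neg hj
      rw [h1, mul_one, mul_inv_cancel]
      exact one_mem _
  have hSs : IsPGroup r (S : Subgroup L) := S.isPGroup'
  set y : G := Psi D (g' * s' * g'⁻¹) with hy
  have hyA : y ∈ AS D (S : Subgroup L) := mem_AS D hmem
  have hA : IsPGroup r ↥(AS D (S : Subgroup L)) := by
    rintro ⟨_, a, ha, rfl⟩
    obtain ⟨k, hk⟩ := Psi_order D hr hSs fun i => ((Subgroup.mem_pi _).1 ha) i (Set.mem_univ _)
    refine ⟨k, Subtype.ext ?_⟩
    show (Psi D a) ^ r ^ k = 1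
    rw [← hk, pow_orderOf_eq_one]
  have hsol : Group.IsSolvable ↥(closure ({x, y} : Set G)) :=
    isSolvable_pair (isSolvable_of_isPGroup hA) (AS_conj D) hyA
  have h1 := h r hr hrp y (Psi_order D hr hSs hmem) hsol (Psi D g'⁻¹)
  have h2 : Psi D g'⁻¹ * y * (Psi D g'⁻¹)⁻¹ = Psi D s' := by
    rw [hy, ← map_inv, ← map_mul, ← map_mul]
    congr 1
    group
  rw [h2] at h1
  refine solvable_of_mem D h1 ?_
  rintro _ ⟨i, rfl⟩
  have hi : ((i : ℕ) : ZMod p).val = (i : ℕ) := ZMod.val_cast_of_lt (lt_of_lt_of_le i.2 hp5)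
  refine ⟨((i : ℕ) : ZMod p), s', ?_, ?_⟩
  · show (if h : ((i : ℕ) : ZMod p).val < 5 then s ⟨((i : ℕ) : ZMod p).val, h⟩ else 1) = s i
    rw [dif_pos (by rw [hi]; exact i.2)]
    congr 1
    exact Fin.ext hi
  · have hx' : x ∈ closure ({x, Psi D s'} : Set G) := subset_closure (by simp)
    have hP' : Psi D s' ∈ closure ({x, Psi D s'} : Set G) := subset_closure (by simp)
    exact mul_mem (mul_mem (inv_mem (pow_mem hx' _)) hP') (pow_mem hx' _)

/-- the proper subgroups of `L` are solvable, if `x` lies in the radical of every proper subgroup which contains it -/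
theorem proper_solvable (hR : ∀ H : Subgroup G, H ≠ ⊤ → x ∈ H → x ∈ radIn H) {B : Subgroup L} (hB : B ≠ ⊤) :
    Group.IsSolvable B := by
  classical
  set H : Subgroup G := AS D B ⊔ zpowers x with hH
  have hxH : x ∈ H := mem_sup_right (mem_zpowers x)
  have hns : ¬ Group.IsSolvable L := quasisimple_not_isSolvable D.comp.2
  have hne : H ≠ ⊤ := by
    intro ht
    -- `AS D B` is normal with cyclic quotient
    have hnx : zpowers x ≤ normalizer ((AS D B : Subgroup G) : Set G) := by
      rw [zpowers_le]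
      exact mem_norm (AS_conj D)
    have hN : (AS D B).Normal := by
      apply Subgroup.normalizer_eq_top_iff.1
      rw [eq_top_iff, ← ht]
      exact sup_le le_normalizer hnx
    -- so `L ≤ AS D B`
    have hcomm : ∀ a b : G ⧸ AS D B, a * b = b * a := by
      have hc : ∀ y : G ⧸ AS D B, y ∈ zpowers (QuotientGroup.mk' (AS D B) x) := by
        intro y
        obtain ⟨m, rfl⟩ := QuotientGroup.mk'_surjective (AS D B) y
        have h2 : m ∈ AS D B ⊔ zpowers x := by rw [← hH, ht]; exact mem_top _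
        obtain ⟨a, ha, z, hz, h3⟩ := (Subgroup.mem_sup_of_normal_left (hs := hN)).1 h2
        obtain ⟨k, rfl⟩ := mem_zpowers_iff.1 hz
        rw [← h3, map_mul, map_zpow]
        have h4 : QuotientGroup.mk' (AS D B) a = 1 := (QuotientGroup.eq_one_iff a).2 ha
        rw [h4, one_mul]
        exact zpow_mem (mem_zpowers _) k
      intro a b
      obtain ⟨i, rfl⟩ := mem_zpowers_iff.1 (hc a)
      obtain ⟨j, rfl⟩ := mem_zpowers_iff.1 (hc b)
      rw [← zpow_add, ← zpow_add, add_comm]
    have hperf : ⁅(⊤ : Subgroup L), (⊤ : Subgroup L)⁆ = ⊤ := by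
      have h1 : Group.IsPerfect L := quasisimple_isPerfect D.comp.2
      exact h1.commutator_eq_top
    have hLB : L ≤ AS D B := by
      have h1 : (⊤ : Subgroup L) ≤ (AS D B).subgroupOf L := by
        rw [← hperf, commutator_le]
        intro a _ b _
        rw [mem_subgroupOf]
        apply (QuotientGroup.eq_one_iff (N := AS D B) _).1
        have h2 := hcomm (QuotientGroup.mk' (AS D B) a) (QuotientGroup.mk' (AS D B) b)
        show QuotientGroup.mk' (AS D B) ((⁅a, b⁆ : L) : G) = 1
        rw [commutatorElement_def]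
        push_cast
        rw [map_mul, map_mul, map_mul, h2, map_inv, map_inv]
        group
      intro l hl
      exact mem_subgroupOf.1 (h1 (mem_top (⟨l, hl⟩ : L)))
    apply hB
    rw [eq_top_iff]
    intro l _
    obtain ⟨a, ha, h1⟩ := hLB l.2
    -- `a 0` and `l` act equally on `L`
    have h2 : ∀ l' : L, (a 0 * l' * (a 0)⁻¹ : L) = l * l' * l⁻¹ := by
      intro l'
      have h3 := Psi_act D a 0 l'
      rw [ZMod.val_zero, pow_zero, inv_one, one_mul, mul_one, h1] at h3
      exact Subtype.ext h3.symm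
    have h3 : a 0 = l := by
      apply conj_injective (center_eq D)
      ext l'
      exact congrArg Subtype.val (h2 l')
    rw [← h3]
    exact ((Subgroup.mem_pi _).1 ha) 0 (Set.mem_univ _)
  have hxr := hR H hne hxH
  have h1 : Group.IsSolvable ↥(closure (B : Set L)) := by
    refine solvable_of_mem D (radIn_solvable H) ?_
    intro l hl
    refine ⟨0, Pi.mulSingle 0 l * Pi.mulSingle 1 l⁻¹, ?_, ?_⟩
    · have h01 : (0 : ZMod p) ≠ 1 := by
        have : Fact (1 < p) := ⟨hp.out.one_lt⟩
        exact zero_ne_one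
      rw [Pi.mul_apply, Pi.mulSingle_eq_same, Pi.mulSingle_eq_of_ne h01, mul_one]
    · rw [ZMod.val_zero, pow_zero, inv_one, one_mul, mul_one, ← comm_eq]
      have hlH : (l : G) ∈ H := by
        have h2 : Psi D (Pi.mulSingle 0 l) = (l : G) := by
          rw [Psi_single, ZMod.val_zero, pow_zero, inv_one, one_mul, mul_one]
        rw [← h2]
        refine mem_sup_left (mem_AS D fun i => ?_)
        by_cases hi : i = 0
        · rw [hi, Pi.mulSingle_eq_same]; exact hl
        · rw [Pi.mulSingle_eq_of_ne hi]; exact one_mem _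
      have h3 : (l : G) * (x * (l : G)⁻¹ * x⁻¹) = ((l : G) * x * (l : G)⁻¹) * x⁻¹ := by group
      rw [h3]
      exact mul_mem (radIn_conj_mem hlH hxr) (inv_mem hxr)
  rwa [Subgroup.closure_eq] at h1

end Cfsg.Agent.H301.SY.Moved
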