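import Mathlib
import Cfsg.Agent.H301.SY.Moved
import Cfsg.Agent.H63.SYFiveMin

/-!
# S3846: the reduction to simple groups (helper301)

`reduction` : `x ∈ G` of prime order `p ≥ 5` with `YE p x` lies in the solvable radical, provided that `NoYA p K` holds
for every non-abelian finite simple group `K`.
-/

set_option autoImplicit false
set_option linter.unusedSectionVars false

namespace Cfsg.Agent.H301.SY

open Cfsg Subgroup Cfsg.Agent.SignalizersComponents.ComponentExists Cfsg.Agent.H459.Rad Cfsg.Agent.H459.Reduce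
open Cfsg.Agent.SignalizersComponents.Components
open scoped commutatorElement

universe u

theorem YE.subtype {G : Type*} [Group G] {H : Subgroup G} {x : H} {p : ℕ} (h : YE p (x : G)) : YE p x := by
  have key : ∀ y : H, (closure ({x, y} : Set H)).map H.subtype = closure ({(x : G), (y : G)} : Set G) := by
    intro y
    rw [MonoidHom.map_closure, Set.image_pair]
    rfl
  intro r hr hrp y hy hs g
  have h1 := h r hr hrp y (by simpa [Subgroup.orderOf_coe] using hy) (by rw [← key]; exact isSolvable_map hs _) g
  have h2 := key (g * y * g⁻¹)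
  have h3 : ((g * y * g⁻¹ : H) : G) = g * y * (g : G)⁻¹ := by push_cast; rfl
  rw [h3] at h2
  rw [← h2] at h1
  exact Group.isSolvable_of_isSolvable_injective
    (f := ((closure ({x, g * y * g⁻¹} : Set H)).equivMapOfInjective H.subtype H.subtype_injective).toMonoidHom)
    (MulEquiv.injective _)

/-- a subgroup whose image modulo a solvable normal subgroup is solvable -/
theorem isSolvable_of_map {G : Type*} [Group G] {R : Subgroup G} [R.Normal] (hR : Group.IsSolvable R)
    {S : Subgroup G} (h : Group.IsSolvable ↥(S.map (QuotientGroup.mk' R))) : Group.IsSolvable S := by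
  let f : ↥S →* ↥(S.map (QuotientGroup.mk' R)) :=
    ((QuotientGroup.mk' R).comp S.subtype).codRestrict _ fun s => ⟨s, s.2, rfl⟩
  have h1 : Group.IsSolvable (R.subgroupOf S) := by
    let g : ↥(R.subgroupOf S) →* ↥R := (S.subtype.comp (R.subgroupOf S).subtype).codRestrict R fun s => s.2
    refine Group.isSolvable_of_isSolvable_injective (f := g) ?_
    intro s t hst
    have h4 : ((s : S) : G) = ((t : S) : G) := congrArg (fun z : ↥R => (z : G)) hst
    exact Subtype.ext (Subtype.ext h4)
  refine Group.isSolvable_of_ker_le_range (f := (R.subgroupOf S).subtype) (g := f) ?_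
  intro t ht
  rw [range_subtype, mem_subgroupOf]
  have h2 : (QuotientGroup.mk' R) (t : G) = 1 := congrArg Subtype.val ht
  exact (QuotientGroup.eq_one_iff _).1 h2

theorem YE.quot {G : Type*} [Group G] [Finite G] {R : Subgroup G} [R.Normal] (hR : Group.IsSolvable R) {x : G} {p : ℕ}
    (h : YE p x) : YE p (QuotientGroup.mk' R x) := by
  have key : ∀ y : G, (closure ({x, y} : Set G)).map (QuotientGroup.mk' R) =
      closure ({QuotientGroup.mk' R x, QuotientGroup.mk' R y} : Set (G ⧸ R)) := by
    intro y
    rw [MonoidHom.map_closure, Set.image_pair]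
  intro r hr hrp y hy hs g
  obtain ⟨g, rfl⟩ := QuotientGroup.mk'_surjective R g
  obtain ⟨y0, rfl⟩ := QuotientGroup.mk'_surjective R y
  obtain ⟨k, hk⟩ := hy
  obtain ⟨m, hm, k', hk'⟩ := exists_part hr y0 k
  have h1 : QuotientGroup.mk' R (y0 ^ m) = QuotientGroup.mk' R y0 := by
    rw [map_pow]
    have h2 : m ≡ 1 [MOD orderOf (QuotientGroup.mk' R y0)] := by rw [hk]; exact hm
    have h3 := pow_eq_pow_iff_modEq.2 h2
    rw [h3, pow_one]
  rw [← h1] at hs ⊢
  rw [← key] at hs
  have h2 := h r hr hrp (y0 ^ m) ⟨k', hk'⟩ (isSolvable_of_map hR hs) g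
  have h3 := isSolvable_map h2 (QuotientGroup.mk' R)
  rw [key, map_mul, map_mul, map_inv] at h3
  exact h3

/-- `⟨x, l⟩` is solvable if its image in `Aut L` is -/
theorem isSolvable_of_image {G : Type*} [Group G] {L : Subgroup G} (hZ : center L = ⊥) {x : G}
    (hm : x ∈ normalizer (L : Set G)) (l : L)
    (h : Group.IsSolvable ↥(closure ({L.normalizerMonoidHom ⟨x, hm⟩, MulAut.conj l} : Set (MulAut L)))) :
    Group.IsSolvable ↥(closure ({x, (l : G)} : Set G)) := by
  set N := normalizer (L : Set G) with hN
  set ρ : N →* MulAut L := L.normalizerMonoidHom with hρ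
  have hLN : L ≤ N := le_normalizer
  have hρL : ∀ l : L, ρ ⟨l, hLN l.2⟩ = MulAut.conj l := by
    intro l
    ext y
    rfl
  set D : Subgroup N := closure ({⟨x, hm⟩, ⟨l, hLN l.2⟩} : Set N) with hD
  have hD1 : D.map N.subtype = closure ({x, (l : G)} : Set G) := by
    rw [hD, MonoidHom.map_closure, Set.image_pair]
    rfl
  have hD2 : D.map ρ = closure ({ρ ⟨x, hm⟩, MulAut.conj l} : Set (MulAut L)) := by
    rw [hD, MonoidHom.map_closure, Set.image_pair, hρL]
  rw [← hD2] at h
  rw [← hD1]
  refine isSolvable_map ?_ _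
  -- the quotient by `L`
  have hLn : (L.subgroupOf N).Normal := Subgroup.normal_in_normalizer
  set q := QuotientGroup.mk' (L.subgroupOf N) with hq
  have hDq : ∀ d ∈ D, q d ∈ zpowers (q ⟨x, hm⟩) := by
    have h1 : D ≤ (zpowers (q ⟨x, hm⟩)).comap q := by
      rw [hD, closure_le]
      rintro _ (rfl | rfl)
      · exact mem_zpowers _
      · show q ⟨l, hLN l.2⟩ ∈ zpowers (q ⟨x, hm⟩)
        have h2 : q ⟨l, hLN l.2⟩ = 1 := (QuotientGroup.eq_one_iff _).2 (mem_subgroupOf.2 l.2)
        rw [h2]
        exact one_mem _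
    exact fun d hd => h1 hd
  have hcomm : ∀ a ∈ D, ∀ b ∈ D, (a * b * a⁻¹ * b⁻¹ : N) ∈ L.subgroupOf N := by
    intro a ha b hb
    obtain ⟨i, hi⟩ := mem_zpowers_iff.1 (hDq a ha)
    obtain ⟨j, hj⟩ := mem_zpowers_iff.1 (hDq b hb)
    apply (QuotientGroup.eq_one_iff _).1
    show q (a * b * a⁻¹ * b⁻¹) = 1
    have h1 : q a * q b = q b * q a := by rw [← hi, ← hj, ← zpow_add, ← zpow_add, add_comm]
    rw [map_mul, map_mul, map_mul, map_inv, map_inv, h1]
    group
  let τ : D →* MulAut L := ρ.comp D.subtype
  have h1 : Group.IsSolvable τ.ker := by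
    refine Group.isSolvable_of_comm fun a b => Subtype.ext (Subtype.ext ?_)
    have h2 := hcomm a.1 a.1.2 b.1 b.1.2
    have h3 : ρ ((a : D) * (b : D) * ((a : D) : N)⁻¹ * ((b : D) : N)⁻¹ : N) = 1 := by
      have ha : ρ ((a : D) : N) = 1 := a.2
      have hb : ρ ((b : D) : N) = 1 := b.2
      rw [map_mul, map_mul, map_mul, map_inv, map_inv, ha, hb]
      simp
    have h4 := mem_subgroupOf.1 h2
    set c : L := ⟨_, h4⟩ with hc
    have h5 : MulAut.conj c = 1 := by
      rw [← hρL]
      exact h3
    have h6 : c = 1 := conj_injective hZ (h5.trans (map_one _).symm)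
    have h7 : (((a : D) * (b : D) * ((a : D) : N)⁻¹ * ((b : D) : N)⁻¹ : N) : G) = 1 := congrArg Subtype.val h6
    have h8 : ((a : D) * (b : D) * ((a : D) : N)⁻¹ * ((b : D) : N)⁻¹ : N) = 1 := Subtype.ext h7
    have h9 : ((a : D) : N) * (b : D) = (b : D) * (a : D) := by
      rw [mul_inv_eq_one, mul_inv_eq_iff_eq_mul] at h8
      exact h8
    exact h9
  let τ' : D →* ↥(D.map ρ) := τ.codRestrict _ fun d => ⟨d, d.2, rfl⟩
  refine Group.isSolvable_of_ker_le_range (f := τ.ker.subtype) (g := τ') ?_
  intro t ht
  rw [range_subtype, MonoidHom.mem_ker]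
  exact congrArg Subtype.val ht

/-- **The reduction.** -/
theorem reduction {p : ℕ} [hpF : Fact p.Prime] (hp5 : 5 ≤ p)
    (core : ∀ (K : Type u) [Group K] [Finite K] [IsSimpleGroup K], ¬ IsMulCommutative K → NoYA p K)
    (G : Type u) [Group G] [Finite G] (x : G) (hx : orderOf x = p) (h : YE p x) : x ∈ solvableRadical G := by
  induction hn : Nat.card G using Nat.strong_induction_on generalizing G with
  | _ n ih =>
    subst hn
    by_contra hxR
    have hp : p.Prime := Fact.out
    have hR : solvableRadical G = ⊥ := by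
      by_contra hne
      have hRn := rad_normal G
      have hRs := rad_solvable G
      set R := solvableRadical G with hRdef
      have hx1 : QuotientGroup.mk' R x ≠ 1 := fun h1 => hxR ((QuotientGroup.eq_one_iff x).1 h1)
      have hox : orderOf (QuotientGroup.mk' R x) = p := by
        have h1 : orderOf (QuotientGroup.mk' R x) ∣ p := hx ▸ orderOf_map_dvd _ x
        rcases (Nat.dvd_prime hp).1 h1 with h2 | h2
        · exact absurd (orderOf_eq_one_iff.1 h2) hx1
        · exact h2
      have hcard : Nat.card (G ⧸ R) < Nat.card G := by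
        have h3 := Subgroup.card_eq_card_quotient_mul_card_subgroup R
        have h4 : 1 < Nat.card R := (Subgroup.one_lt_card_iff_ne_bot R).mpr hne
        have h5 : 0 < Nat.card (G ⧸ R) := Nat.card_pos
        nlinarith
      have h1 := ih _ hcard (G ⧸ R) (QuotientGroup.mk' R x) hox (h.quot hRs) rfl
      have h2 : solvableRadical (G ⧸ R) = ⊥ := rad_quotient
      rw [h2, mem_bot] at h1
      exact hx1 h1
    have hsub : ∀ H : Subgroup G, H ≠ ⊤ → x ∈ H → x ∈ radIn H := by
      intro H hH hxH
      have hcard : Nat.card H < Nat.card G :=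
        lt_of_le_of_ne (Subgroup.card_le_card_group H) fun h => hH (Subgroup.eq_top_of_card_eq H h)
      have h1 := ih _ hcard H ⟨x, hxH⟩ (by rw [Subgroup.orderOf_mk]; exact hx) (YE.subtype (x := ⟨x, hxH⟩) h) rfl
      exact mem_radIn_coe.2 h1
    have hx1 : x ≠ 1 := by
      rintro rfl
      rw [orderOf_one] at hx
      exact hp.one_lt.ne hx
    have hxp : x ^ p = 1 := by rw [← hx]; exact pow_orderOf_eq_one x
    obtain ⟨L, hL, l0, hl0, hne0⟩ := exists_component hR hx1
    have hsimp := component_simple hR hL
    have hna := quasisimple_not_isMulCommutative hL.2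
    by_cases hm : x ∈ normalizer (L : Set G)
    swap
    · have D : Moved.Data p x L := ⟨hR, hxp, hL, hm⟩
      obtain ⟨r, hr, hrp, s, hs, hns⟩ := Cfsg.Agent.H63.SYFiveMin.five_min hna
        (fun H hH => Moved.proper_solvable D hsub hH) hp hp5
      exact hns (Moved.five_solvable D hp5 h hr hrp s hs)
    set N := normalizer (L : Set G) with hN
    set ρ : N →* MulAut L := L.normalizerMonoidHom with hρ
    have hLN : L ≤ N := le_normalizer
    have hρL : ∀ l : L, ρ ⟨l, hLN l.2⟩ = MulAut.conj l := by
      intro l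
      ext y
      rfl
    set y : MulAut L := ρ ⟨x, hm⟩ with hy
    have hyl : ∀ l : L, ((y l : L) : G) = x * l * x⁻¹ := fun l => rfl
    refine core L hna y ?_ ?_ ?_
    · have h1 : orderOf y ∣ p := by
        have h2 : orderOf y ∣ orderOf (⟨x, hm⟩ : N) := orderOf_map_dvd ρ _
        rwa [Subgroup.orderOf_mk, hx] at h2
      rcases (Nat.dvd_prime hp).1 h1 with h2 | h2
      · exfalso
        rw [orderOf_eq_one_iff] at h2
        apply hne0
        have h3 : ((y ⟨l0, hl0⟩ : L) : G) = l0 := by rw [h2]; rfl
        rw [hyl] at h3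
        calc x * l0 = (x * l0 * x⁻¹) * x := by group
          _ = l0 * x := by rw [h3]
      · exact h2
    · -- `RC`
      intro M hM hMx m hm'
      set M' : Subgroup G := M.map L.subtype with hM'
      set H : Subgroup G := M' ⊔ zpowers x with hH
      have hxH : x ∈ H := mem_sup_right (mem_zpowers x)
      have hM'x : ∀ g ∈ M', x * g * x⁻¹ ∈ M' := by
        rintro _ ⟨l, hl, rfl⟩
        exact ⟨y l, hMx l hl, hyl l⟩
      have hHn : H ≤ normalizer (M' : Set G) := by
        refine sup_le le_normalizer ?_
        rw [zpowers_le]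
        exact mem_norm hM'x
      have hHt : H ≠ ⊤ := by
        intro hHt
        have hMn : M'.Normal := by
          rw [hHt] at hHn
          exact Subgroup.normalizer_eq_top_iff.1 (top_le_iff.1 hHn)
        have hMn' : M.Normal := by
          refine ⟨fun n hn g => ?_⟩
          have h1 := hMn.conj_mem _ (show (n : G) ∈ M' from ⟨n, hn, rfl⟩) g
          obtain ⟨n', hn', h2⟩ := h1
          have h3 : n' = g * n * g⁻¹ := Subtype.ext h2
          rwa [← h3]
        rcases hMn'.eq_bot_or_eq_top with h1 | h1
        · have h2 : (⊤ : Subgroup G) = zpowers x := by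
            rw [← hHt, hH, hM', h1, Subgroup.map_bot, bot_sup_eq]
          have h3 : Group.IsSolvable G := by
            have h4 : ∀ a b : G, a * b = b * a := by
              intro a b
              obtain ⟨i, rfl⟩ := mem_zpowers_iff.1 (show a ∈ zpowers x by rw [← h2]; exact mem_top _)
              obtain ⟨j, rfl⟩ := mem_zpowers_iff.1 (show b ∈ zpowers x by rw [← h2]; exact mem_top _)
              rw [← zpow_add, ← zpow_add, add_comm]
            exact Group.isSolvable_of_comm h4
          rw [← rad_eq_top_iff, hR] at h3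
          have h4 : x ∈ (⊥ : Subgroup G) := by rw [h3]; exact mem_top _
          exact hx1 (mem_bot.1 h4)
        · exact hM h1
      have hxr := hsub H hHt hxH
      have hmM' : (m : G) ∈ M' := ⟨m, hm', rfl⟩
      have hM'H : M' ≤ H := le_sup_left
      have h1 : (m : G)⁻¹ * x * m * x⁻¹ ∈ radIn H := by
        have h2 := radIn_conj_mem (inv_mem (hM'H hmM')) hxr
        rw [inv_inv] at h2
        exact mul_mem h2 (inv_mem hxr)
      have h2 : (m : G)⁻¹ * x * m * x⁻¹ ∈ M' := by
        have h3 := mul_mem (inv_mem hmM') (hM'x _ hmM')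
        have e : (m : G)⁻¹ * x * m * x⁻¹ = (m : G)⁻¹ * (x * m * x⁻¹) := by group
        rwa [e]
      have h3 := radIn_inf_le hM'H ⟨h1, h2⟩
      have h4 : (radIn M).map L.subtype = radIn M' := by
        apply le_antisymm
        · refine le_radIn (map_mono (radIn_le M)) ?_ (isSolvable_map (radIn_solvable M) _)
          rintro _ ⟨g, hg, rfl⟩ _ ⟨n, hn, rfl⟩
          exact ⟨g * n * g⁻¹, radIn_conj_mem hg hn, by simp⟩
        · have h5 : radIn M' ≤ L := (radIn_le M').trans (map_subtype_le _)
          have h6 : (radIn M').subgroupOf L ≤ radIn M := by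
            refine le_radIn ?_ ?_ ?_
            · intro l hl
              obtain ⟨l', hl', h7⟩ := radIn_le M' (mem_subgroupOf.1 hl)
              rwa [← Subtype.ext h7]
            · intro g hg n hn
              rw [mem_subgroupOf] at hn ⊢
              exact radIn_conj_mem (M := M') ⟨g, hg, rfl⟩ hn
            · have := radIn_solvable M'
              exact Group.isSolvable_of_surjective (f := (subgroupOfEquivOfLe h5).symm.toMonoidHom)
                (subgroupOfEquivOfLe h5).symm.surjective
          intro z hz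
          exact ⟨⟨z, h5 hz⟩, h6 (mem_subgroupOf.2 hz), rfl⟩
      rw [← h4] at h3
      obtain ⟨w, hw, h5⟩ := h3
      have h6 : w = m⁻¹ * y m := by
        apply Subtype.ext
        rw [show ((w : L) : G) = L.subtype w from rfl, h5]
        push_cast
        rw [hyl]
        group
      rwa [← h6]
    · -- `YA`
      intro r hr hrp l hl hs g
      have h1 := isSolvable_of_image (component_center hR hL) hm l hs
      have h2 := h r hr hrp l (by simpa [Subgroup.orderOf_coe] using hl) h1 g
      set S : Subgroup G := closure ({x, (g : G) * l * (g : G)⁻¹} : Set G) with hS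
      have h3 : Group.IsSolvable ↥((S.subgroupOf N).map ρ) := by
        refine isSolvable_map ?_ _
        let f : ↥(S.subgroupOf N) →* ↥S := (N.subtype.comp (S.subgroupOf N).subtype).codRestrict S
          fun s => s.2
        refine Group.isSolvable_of_isSolvable_injective (f := f) ?_
        intro s t hst
        have h4 : ((s : N) : G) = ((t : N) : G) := congrArg (fun z : ↥S => (z : G)) hst
        exact Subtype.ext (Subtype.ext h4)
      refine isSolvable_of_le ?_ h3
      rw [closure_le]
      rintro _ (rfl | rfl)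
      · exact ⟨⟨x, hm⟩, subset_closure (by simp), rfl⟩
      · refine ⟨⟨_, hLN (g * l * g⁻¹).2⟩, ?_, hρL _⟩
        show ((g * l * g⁻¹ : L) : G) ∈ S
        exact subset_closure (by simp)

end Cfsg.Agent.H301.SY
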