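import Mathlib
import Cfsg.Agent.H301.SY.Inputs
import Cfsg.Agent.H301.SY.Reduce
import Cfsg.Agent.H459.Assemble
import Cfsg.Agent.H823.NfTwF
import Cfsg.Agent.H333.HallHig
import Cfsg.Agent.H621.SY.PslRow
import Cfsg.Agent.H597.SYPsuRow
import Cfsg.Agent.H387.SyPsp
import Cfsg.Agent.H62.SYOrth
import Cfsg.Agent.H491.SY.Minus
import Cfsg.Agent.H941.SY.RowsG2F4
import Cfsg.Agent.H941.SY.Rows
import Cfsg.Agent.H120.Zc.E78
import Cfsg.Agent.H306.SY.TD4Row
import Cfsg.Agent.H759.TwFSY.Main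
import Cfsg.Agent.H947.Sy.Psl2
import Cfsg.Agent.H541.NoyaSz
import Cfsg.Agent.H541.NoyaRee
import Cfsg.Agent.H947.Sy.Psu3

/-!
# S3846: the groups of Lie type (helper301)
-/

set_option autoImplicit false
set_option linter.unusedSectionVars false

namespace Cfsg.Agent.H301.SY

open Cfsg Subgroup Cfsg.Agent.H459.Rad Cfsg.Agent.H459.Iface Cfsg.Agent.H459.NonFix Cfsg.Agent.H459.NonFixLie

/-- the rows `CRow` of the groups of rank at least two -/
theorem crow_of_isBig {K : Type*} [Group K] [Finite K] [IsSimpleGroup K] {r p : ℕ} (hr : r.Prime) (hp : p.Prime)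
    (hp5 : 5 ≤ p) (hpr : p ≠ r) (hB : IsBig r K) : CRow r p K := by
  have : Fact r.Prime := ⟨hr⟩
  have : Fact p.Prime := ⟨hp⟩
  have hh : HH := Cfsg.Agent.H333.HallHig.hh
  rcases hB with h | h | h | h | h | h | h | h
  · obtain ⟨F, _, _, _, n, hn, e⟩ := h
    exact Cfsg.Agent.H621.SYPsl.crow_psl hh hn e hp5 hpr
  · exact Cfsg.Agent.H387.SyPsp.crow_psp h hp5 hpr
  · obtain ⟨F, _, _, _, n, q, hF, hn, e⟩ := h
    exact Cfsg.Agent.H597.SYPsu.crow_psu hh hF (by omega) e hp5 hpr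
  · exact Cfsg.Agent.H62.SYOrth.crow_omega_odd h hp5 hpr
  · exact Cfsg.Agent.H62.SYOrth.crow_omega_plus h hp5 hpr
  · exact Cfsg.Agent.H491.SY.crow_omega_minus hh h hp5 hpr
  · obtain ⟨F, _, _, _, h⟩ := h
    rcases h with ⟨h3, e⟩ | e | e | e | e
    · exact Cfsg.Agent.H941.SY.crow_g2 hh h3 e hp5 hpr
    · exact Cfsg.Agent.H941.SY.crow_f4 hh e hp5 hpr
    · exact Cfsg.Agent.H941.SY.crow_e6 e hp5 hpr
    · exact Cfsg.Agent.H120.ZcE.crow_e7 e hp5 hpr
    · exact Cfsg.Agent.H120.ZcE.crow_e8 e hp5 hpr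
  · obtain ⟨F, _, _, _, q, -, h⟩ := h
    rcases h with ⟨hF, e⟩ | ⟨hF, e⟩
    · exact Cfsg.Agent.H941.SY.crow_tE6 hF e hp5 hpr
    · exact Cfsg.Agent.H306.SY.crow_tD4 hh hF e hp5 hpr

universe u

/-- **The groups of Lie type.** -/
theorem noya_lie {K : Type u} [Group K] [Finite K] [IsSimpleGroup K] (hna : ¬ IsMulCommutative K) {r p : ℕ}
    (hr : r.Prime) [hp : Fact p.Prime] (hp5 : 5 ≤ p) (h : IsLieTypeChar r K) : NoYA p K := by
  have : Fact r.Prime := ⟨hr⟩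
  have hh : HH := Cfsg.Agent.H333.HallHig.hh
  have hZ := center_eq_bot hna
  have hb : Blk p K := blk hna
  rcases Cfsg.Agent.H459.Assemble.isLie_cases h with h1 | h1 | h1 | h1 | h1 | h1
  · intro x hx hR hY
    obtain ⟨hpr, ⟨y, rfl⟩, hcyc⟩ := Cfsg.Agent.H459.Assemble.cyc_of_isBig hr hp.out hp5 h1 hx hR
    have hy : orderOf y = p := by
      rw [← hx]
      exact (orderOf_injective (MulAut.conj : K →* MulAut K) (conj_injective hZ) y).symm
    have hF : ¬ FixR r (MulAut.conj y) := fun h2 => nf_of_isBig hr h1 hp.out hp5 _ hx hR h2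
    refine false_of_crow hna hb (gw hr h) hy (YE.of_ya hZ hY) hcyc hF ?_
    rcases crow_of_isBig hr hp.out hp5 hpr h1 y hy hR hcyc with h2 | h2
    · exact absurd h2 hF
    · exact h2
  · obtain ⟨F, _, _, e⟩ := h1
    exact Cfsg.Agent.H947.Sy.noya_psl2 e hp5
  · obtain ⟨F, _, _, q, hF, e⟩ := h1
    exact Cfsg.Agent.H947.Sy.noya_psu3 hh hF e hp5
  · exact Cfsg.Agent.H541.NoyaSz.noya_sz hh h1 hp5 hb
      (gw Nat.prime_two (by simp only [IsLieTypeChar, h1, true_and, true_or, or_true]))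
  · obtain ⟨rfl, h1⟩ := h1
    intro x hx hR hY
    have hN := Cfsg.Agent.H823.NfTwF.nf_twF4 h1 hp5 (p := p)
    have h2 : ClAt 2 p K := Cfsg.Agent.H459.Assemble.of_exc Nat.prime_two hp.out hp5 h
      (Cfsg.Agent.H496.TwFRad.Row.excAt_ree2f4 h1 hp5)
    rcases h2 x hx hR with h3 | ⟨⟨y, rfl⟩, hcyc⟩
    · exact hN x hx hR h3
    have hy : orderOf y = p := by
      rw [← hx]
      exact (orderOf_injective (MulAut.conj : K →* MulAut K) (conj_injective hZ) y).symm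
    have hF : ¬ FixR 2 (MulAut.conj y) := fun h2 => hN _ hx hR h2
    refine false_of_crow hna hb (gw hr h) hy (YE.of_ya hZ hY) hcyc hF ?_
    rcases Cfsg.Agent.H759.TwFSY.crow_ree2f4 hh h1 hp5 y hy hR hcyc with h2 | h2
    · exact absurd h2 hF
    · exact h2
  · exact Cfsg.Agent.H541.NoyaRee.noya_ree hh h1 hp5 hb
      (gw Nat.prime_three (by simp only [IsLieTypeChar, h1, true_and, or_true]))

end Cfsg.Agent.H301.SY
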