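import Mathlib
import Cfsg.Agent.H301.SY.Inputs
import Cfsg.Agent.H219.NoEMEleven
import Cfsg.Agent.H621.SY.Mathieu
import Cfsg.Agent.H305.YJ1
import Cfsg.Agent.H305.YJ2
import Cfsg.Agent.H305.YJ3
import Cfsg.Agent.H51.SY.J4
import Cfsg.Agent.H51.SY.Ly
import Cfsg.Agent.H51.SY.ON
import Cfsg.Agent.H846.NoESmall
import Cfsg.Agent.H352.NoECo
import Cfsg.Agent.H454.SYCoOne
import Cfsg.Agent.H566.NoE.Suz
import Cfsg.Agent.H566.NoE.Fi22
import Cfsg.Agent.H70.NoEHe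
import Cfsg.Agent.H669.SY.Th
import Cfsg.Agent.H669.SY.HN
import Cfsg.Agent.H387.SyRu
import Cfsg.Agent.H837.NoEFi23
import Cfsg.Agent.H841.SY.Fi24
import Cfsg.Agent.H805.NoEB

/-!
# S3846: the sporadic groups except the Monster (helper301)
-/

set_option autoImplicit false

namespace Cfsg.Agent.H301.SY

open Cfsg

/-- **The sporadic groups.** -/
theorem noE_spor {K : Type*} [Group K] [Finite K] [IsSimpleGroup K] {p : ℕ} [Fact p.Prime] (hp : 5 ≤ p)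
    (hb : Blk p K) (hO : ThO p K) (hM : Spor.IsoM K → NoE p K) (h : IsSporadicGroup K) : NoE p K := by
  rcases h with h | h | h | h | h | h | h | h | h | h | h | h | h | h | h | h | h | h | h | h | h | h | h | h | h | h
  · exact Cfsg.Agent.H219.NoEM11.noE_m11 h hp hb hO
  · exact Cfsg.Agent.H621.SYMathieu.noE_m12 h hp hb hO
  · exact Cfsg.Agent.H621.SYMathieu.noE_m22 h hp hb hO
  · exact Cfsg.Agent.H621.SYMathieu.noE_m23 h hp hb hO
  · exact Cfsg.Agent.H621.SYMathieu.noE_m24 h hp hb hO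
  · exact Cfsg.Agent.H305.YJ1.noE_j1 h hp hb hO
  · exact Cfsg.Agent.H305.YJ2.noE_j2 h hp hb hO
  · exact Cfsg.Agent.H305.YJ3.noE_j3 h hp hb hO
  · exact Cfsg.Agent.H51.SY.J4.noE_j4 h hp hb hO
  · exact Cfsg.Agent.H454.SYCoOne.noE_co1 h hp hb hO
  · exact Cfsg.Agent.H352.NoECo.noE_co2 h hp hb hO
  · exact Cfsg.Agent.H352.NoECo.noE_co3 h hp hb hO
  · exact Cfsg.Agent.H846.NoESmall.noE_mcl h hp hb hO
  · exact Cfsg.Agent.H846.NoESmall.noE_hs h hp hb hO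
  · exact Cfsg.Agent.H566.NoE.noE_suz h hp hb hO
  · exact Cfsg.Agent.H70.NoEHe.noE_he h hp hb hO
  · exact Cfsg.Agent.H387.SyRu.noE_ru h hp hb hO
  · exact Cfsg.Agent.H51.SY.ON.noE_on h hp hb hO
  · exact Cfsg.Agent.H51.SY.Ly.noE_ly h hp hb hO
  · exact Cfsg.Agent.H566.NoE.noE_fi22 h hp hb hO
  · exact Cfsg.Agent.H837.NoEFi23.noE_fi23 h hp hb hO
  · exact Cfsg.Agent.H841.SY.noE_fi24 h hp hb hO
  · exact Cfsg.Agent.H669.SY.noE_hn h hp hb hO
  · exact Cfsg.Agent.H669.SY.noE_th h hp hb hO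
  · exact Cfsg.Agent.H805.NoESpor.noE_b h hp hb hO
  · exact hM h

end Cfsg.Agent.H301.SY
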