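import Mathlib
import Cfsg.Agent.S0000
import Cfsg.Agent.OddHalf.Known
import Cfsg.Agent.H301.SY.Lie
import Cfsg.Agent.H301.SY.SpoRows
import Cfsg.Agent.H848.NoEMAll
import Cfsg.Agent.H63.SYThmO
import Cfsg.Agent.H141.SY.Alt
import Cfsg.Agent.H980.NoYATits
import Cfsg.Agent.H466.KnownOk

/-!
# S3846: the assembly (helper301)
-/

set_option autoImplicit false

namespace Cfsg.Agent.H301.SY

open Cfsg Subgroup

universe u

theorem thO {K : Type*} [Group K] [Finite K] [IsSimpleGroup K] {p : ℕ} [Fact p.Prime] (hp5 : 5 ≤ p) : ThO p K := by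
  intro hP t ht htp x hx hR hC R h0 hRt hxR T
  have : Fact t.Prime := ⟨ht⟩
  exact Cfsg.Agent.H63.SYThmO.thmO hp5 htp hP hx hR hC h0 hRt hxR T

/-- **No non-abelian finite simple group has an automorphism of order `p ≥ 5` with `RC` and `YA`.** -/
theorem noya {K : Type u} [Group K] [Finite K] [IsSimpleGroup K] (hna : ¬ IsMulCommutative K) {p : ℕ}
    [hp : Fact p.Prime] (hp5 : 5 ≤ p) : NoYA p K := by
  rcases Cfsg.Agent.OddHalf.Known.classify' hna (Cfsg.Agent.S0000.result (G := K)) with h | ⟨r, hr, h⟩ | h | h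
  · obtain ⟨n, hn, e⟩ := h
    exact Cfsg.Agent.H141.SY.noya_alt hn hp5 e
  · exact noya_lie hna hr hp5 h
  · exact Cfsg.Agent.H980.NoYATits.noya_tits h hp5
  · refine NoYA.of_noE hna (fun x hx => ?_) (noE_spor hp5 (blk hna) (thO hp5)
      (fun hM => Cfsg.Agent.H848.NoEM.noE_m hM hp5 (blk hna) (thO hp5)) h)
    exact Cfsg.Agent.H466.Split.oddInner_sporadic h x (by
      rw [hx]
      exact hp.out.odd_of_ne_two (by omega))

end Cfsg.Agent.H301.SY
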